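import Groth.Agent.ModDescent24.Glue

/-!
# Finitely presented quasi-coherent modules on a limit descend to a stage
-/

set_option autoImplicit false
set_option linter.style.haveILetI false
set_option backward.isDefEq.respectTransparency false
set_option backward.isDefEq.respectTransparency.types false
set_option maxHeartbeats 1000000

universe u

open CategoryTheory CategoryTheory.Limits AlgebraicGeometry TopologicalSpace Opposite

noncomputable section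

namespace Groth.Agent.ModDescent24

open ZClosLib (res res_res res_self app_res)

/-- A map compatible with restrictions, bijective over an affine, is bijective over smaller affines. -/
theorem bijective_of_res {T : Scheme.{u}} {M N : T.Modules} (hM : Coh.IsQCoh M) (hN : Coh.IsQCoh N)
    {B A : T.Opens} (hB : IsAffineOpen B) (hA : IsAffineOpen A) (h : A ≤ B)
    (ψB : Γ(M, B) → Γ(N, B)) (ψA : Γ(M, A) → Γ(N, A)) (hadd : ∀ x y, ψB (x + y) = ψB x + ψB y)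
    (hsmul : ∀ (r : Γ(T, B)) x, ψB (r • x) = r • ψB x) (haddA : ∀ x y, ψA (x + y) = ψA x + ψA y)
    (hsmulA : ∀ (r : Γ(T, A)) x, ψA (r • x) = r • ψA x) (hb : Function.Bijective ψB)
    (hres : ∀ x, ψA (res M h x) = res N h (ψB x)) : Function.Bijective ψA :=
  (isBC_res hM hB hA h).bijective_of_comp
    (((IsBC.of_bijective hadd hsmul hb).comp (isBC_res hN hB hA h)).congr (RingHom.comp_id _) fun _ => rfl)
    ψA haddA hsmulA hres

variable {I : Type u} [SmallCategory I] [IsCofiltered I] {D : I ⥤ Scheme.{u}} {c : Cone D}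
  (hc : IsLimit c) {F : c.pt.Modules}

include hc in
/-- One step of the gluing. -/
theorem exists_step [∀ {a b : I} (f : a ⟶ b), IsAffineHom (D.map f)] (hF : Coh.IsQCoh F) {i : I}
    [QuasiSeparatedSpace (D.obj i)] {W : (D.obj i).Opens} {G₁ : (D.obj i).Modules}
    {f₁ : G₁ ⟶ (Loc W).obj (Pi c F i)} (hG₁ : Coh.IsQCoh G₁) {κ : Type} [Finite κ]
    (U : κ → (D.obj i).Opens) (hf₁ : ∀ a, Good c f₁ (U a)) (hW : W ≤ ⨆ a, U a) {V : (D.obj i).Opens}
    {G₂ : (D.obj i).Modules} {f₂ : G₂ ⟶ (Loc V).obj (Pi c F i)} (hG₂ : Coh.IsQCoh G₂) (hf₂ : Good c f₂ V) :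
    ∃ (k : I) (m : k ⟶ i) (W' : (D.obj k).Opens) (G : (D.obj k).Modules) (f : G ⟶ (Loc W').obj (Pi c F k)),
      Coh.IsQCoh G ∧ (∀ a, Good c f (D.map m ⁻¹ᵁ U a)) ∧ Good c f (D.map m ⁻¹ᵁ V) ∧
        W' ≤ (⨆ a, D.map m ⁻¹ᵁ U a) ⊔ D.map m ⁻¹ᵁ V := by
  have hVc : IsCompact (V : Set (D.obj i)) := hf₂.choose_spec.1.isCompact
  have hWc : IsCompact (W : Set (D.obj i)) := by
    have he : W = ⨆ a, U a := le_antisymm hW (iSup_le fun a => (hf₁ a).choose)
    rw [he, Opens.coe_iSup]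
    exact isCompact_iUnion fun a => (hf₁ a).choose_spec.1.isCompact
  have hWVc := QuasiSeparatedSpace.inter_isCompact _ _ W.2 hWc V.2 hVc
  obtain ⟨κ', hκ', A, hA, hAcov⟩ := exists_affine_refinement (O := W ⊓ V) hWVc U
    fun x hx => Opens.mem_iSup.1 (hW hx.1)
  haveI := isAffineHom_π_app D c hc i
  have hgA : ∀ b, Good c f₁ (A b) := fun b => by
    obtain ⟨hAff, -, a, hle⟩ := hA b
    exact (hf₁ a).restrict hG₁ hF hAff hle
  obtain ⟨k, m, θ, hθ⟩ := exists_hom_stage hc hF (inf_le_left : W ⊓ V ≤ W) inf_le_right hG₁ hG₂ f₁ f₂ hf₂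
    hWVc A (fun b => (hA b).2.1) hAcov hgA
  let p := D.map m
  haveI : QuasiSeparatedSpace (D.obj k) := quasiSeparatedSpace_of_quasiSeparated p
  have hG₁' := QCoh.isQCoh_pullback p hG₁
  have hG₂' := QCoh.isQCoh_pullback p hG₂
  obtain ⟨l, n, hl⟩ := exists_bijective_stage hc hF hG₁' hG₂' (Good.raise hc m hG₂ hF hf₂)
    (fun b => p ⁻¹ᵁ A b) (fun b => p.preimage_mono (hA b).2.1) (fun b => Good.raise hc m hG₁ hF (hgA b)) hθ
  let q := D.map n
  haveI : QuasiSeparatedSpace (D.obj l) := quasiSeparatedSpace_of_quasiSeparated q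
  haveI := isAffineHom_π_app D c hc l
  have hG₁'' := QCoh.isQCoh_pullback q hG₁'
  have hG₂'' := QCoh.isQCoh_pullback q hG₂'
  let θ' := raiseHom n θ
  let A' : κ' → (D.obj l).Opens := fun b => q ⁻¹ᵁ (p ⁻¹ᵁ A b)
  have hA' : ∀ b, IsAffineOpen (A' b) := fun b => ((hA b).1.preimage p).preimage q
  have hA'le : ∀ b, A' b ≤ q ⁻¹ᵁ (p ⁻¹ᵁ W) ⊓ q ⁻¹ᵁ (p ⁻¹ᵁ V) := fun b =>
    q.preimage_mono (p.preimage_mono (hA b).2.1)
  have hcov' : ∀ x ∈ q ⁻¹ᵁ (p ⁻¹ᵁ W) ⊓ q ⁻¹ᵁ (p ⁻¹ᵁ V), ∃ b, x ∈ A' b := fun x hx => hAcov (p (q x)) hx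
  have hcA : ∀ b, Compat (inf_le_left : q ⁻¹ᵁ (p ⁻¹ᵁ W) ⊓ q ⁻¹ᵁ (p ⁻¹ᵁ V) ≤ q ⁻¹ᵁ (p ⁻¹ᵁ W)) inf_le_right
      (raiseF c n (raiseF c m f₁)) (raiseF c n (raiseF c m f₂)) θ' (A' b) := fun b =>
    (hθ b).raise n hG₁' ((hA b).1.preimage p) (p.preimage_mono (hA b).2.1)
  obtain ⟨G, f, hG, h1, h2⟩ := exists_glued (W := q ⁻¹ᵁ (p ⁻¹ᵁ W)) (V := q ⁻¹ᵁ (p ⁻¹ᵁ V))
    (q.isCompact_preimage (p.isCompact_preimage hWc)) (q.isCompact_preimage (p.isCompact_preimage hVc))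
    hG₁'' hG₂'' (raiseF c n (raiseF c m f₁)) (raiseF c n (raiseF c m f₂)) θ'
    (fun {O} hO => bijective_evIn_of_cover θ' (fun B => IsAffineOpen B ∧ ∃ b, B ≤ A' b) (fun x hx O hxO => by
      obtain ⟨b, hb⟩ := hcov' x hx
      obtain ⟨B, hB, hxB, hle⟩ := exists_isAffineOpen_mem_and_subset (x := x) (U := O ⊓ A' b) ⟨hxO, hb⟩
      exact ⟨B, fun y hy => (hle hy).1, fun y hy => hA'le b (hle hy).2, hxB, hB, b, fun y hy => (hle hy).2⟩)
      (fun B hB ⟨hBaff, b, hle⟩ => bijective_of_res hG₁'' hG₂'' (hA' b) hBaff hle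
        (fun s => evIn _ _ (hA'le b) (θ'.app (A' b) s)) (fun s => evIn _ _ hB (θ'.app B s))
        (fun x y => by rw [map_add, evIn_add])
        (fun r x => by rw [Scheme.Modules.Hom.app_smul, evIn_smul])
        (fun x y => by rw [map_add, evIn_add])
        (fun r x => by rw [Scheme.Modules.Hom.app_smul, evIn_smul])
        (hl b) (fun x => (congrArg (evIn _ _ hB) (app_res θ' hle x)).trans
          (evIn_res (q ⁻¹ᵁ (p ⁻¹ᵁ W) ⊓ q ⁻¹ᵁ (p ⁻¹ᵁ V)) _ (hA'le b) hle _))) hO)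
    (fun {O} hO x hx => by
      obtain ⟨b, hb⟩ := hcov' x (hO hx)
      obtain ⟨B, hB, hxB, hle⟩ := exists_isAffineOpen_mem_and_subset (x := x) (U := O ⊓ A' b) ⟨hx, hb⟩
      exact ⟨B, hxB, fun y hy => (hle hy).1,
        (hcA b).restrict hG₁'' (hA' b) (hA'le b) hB fun y hy => (hle hy).2⟩)
  have hcomp : ∀ O : (D.obj i).Opens, D.map (n ≫ m) ⁻¹ᵁ O = q ⁻¹ᵁ (p ⁻¹ᵁ O) := fun O => by
    rw [D.map_comp]; rfl
  refine ⟨l, n ≫ m, _, G, f, hG, fun a => ?_, ?_, ?_⟩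
  · rw [hcomp]
    exact h1 _ (Good.raise hc n hG₁' hF (Good.raise hc m hG₁ hF (hf₁ a)))
  · rw [hcomp]
    exact h2 _ (Good.raise hc n hG₂' hF (Good.raise hc m hG₂ hF hf₂))
  · simp only [hcomp]
    refine sup_le_sup (fun x hx => ?_) le_rfl
    obtain ⟨a, ha⟩ := Opens.mem_iSup.1 (hW (show p (q x) ∈ W from hx))
    exact Opens.mem_iSup.2 ⟨a, ha⟩

include hc in
/-- A model on finitely many affine opens. -/
theorem exists_model [∀ {a b : I} (f : a ⟶ b), IsAffineHom (D.map f)] (hF : Coh.IsQCoh F) (hfp : CohB1.IsFP F)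
    {i : I} [QuasiSeparatedSpace (D.obj i)] {n : ℕ} (U : Fin n → (D.obj i).Opens) (hU : ∀ a, IsAffineOpen (U a)) :
    ∃ (k : I) (m : k ⟶ i) (W : (D.obj k).Opens) (G : (D.obj k).Modules) (f : G ⟶ (Loc W).obj (Pi c F k)),
      Coh.IsQCoh G ∧ (∀ a, Good c f (D.map m ⁻¹ᵁ U a)) ∧ W ≤ ⨆ a, D.map m ⁻¹ᵁ U a := by
  induction n with
  | zero =>
    haveI := isAffineHom_π_app D c hc i
    exact ⟨i, 𝟙 i, ⊥, Pi c F i, toLoc ⊥ _, QCoh.isQCoh_pushforward (c.π.app i) hF, fun a => a.elim0, bot_le⟩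
  | succ n ih =>
    obtain ⟨k, m, W, G₁, f₁, hG₁, hf₁, hW⟩ := ih (fun a => U a.castSucc) (fun a => hU _)
    haveI : QuasiSeparatedSpace (D.obj k) := quasiSeparatedSpace_of_quasiSeparated (D.map m)
    obtain ⟨k', m', G₂, f₂, hG₂, hf₂⟩ := exists_good_affine hc hF hfp ((hU (Fin.last n)).preimage (D.map m))
    haveI : QuasiSeparatedSpace (D.obj k') := quasiSeparatedSpace_of_quasiSeparated (D.map m')
    obtain ⟨l, q, W', G, f, hG, hf, hfV, hW'⟩ := exists_step hc hF (QCoh.isQCoh_pullback (D.map m') hG₁)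
      (f₁ := raiseF c m' f₁) (fun a => D.map m' ⁻¹ᵁ (D.map m ⁻¹ᵁ U a.castSucc))
      (fun a => Good.raise hc m' hG₁ hF (hf₁ a)) (fun x hx => by
        obtain ⟨a, ha⟩ := Opens.mem_iSup.1 (hW (show D.map m' x ∈ W from hx))
        exact Opens.mem_iSup.2 ⟨a, ha⟩) hG₂ hf₂
    have hcomp : ∀ a, D.map (q ≫ m' ≫ m) ⁻¹ᵁ U a = D.map q ⁻¹ᵁ (D.map m' ⁻¹ᵁ (D.map m ⁻¹ᵁ U a)) := fun a => by
      rw [D.map_comp, D.map_comp]; rfl
    refine ⟨l, q ≫ m' ≫ m, W', G, f, hG, fun a => ?_, hW'.trans (sup_le (iSup_le fun a => ?_) ?_)⟩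
    · rw [hcomp]
      induction a using Fin.lastCases with
      | last => exact hfV
      | cast a => exact hf a
    · exact le_iSup_of_le a.castSucc (hcomp a.castSucc).ge
    · exact le_iSup_of_le (Fin.last n) (hcomp (Fin.last n)).ge

include hc in
/-- A finitely presented quasi-coherent module on the limit is the inverse image of one on a stage. -/
theorem exists_descent [∀ {a b : I} (f : a ⟶ b), IsAffineHom (D.map f)] (i₀ : I) [CompactSpace (D.obj i₀)]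
    [QuasiSeparatedSpace (D.obj i₀)] (hF : Coh.IsQCoh F) (hfp : CohB1.IsFP F) :
    ∃ (i : I) (_ : i ⟶ i₀) (G : (D.obj i).Modules), Coh.IsQCoh G ∧ CohB1.IsFP G ∧
      Nonempty ((Scheme.Modules.pullback (c.π.app i)).obj G ≅ F) := by
  classical
  obtain ⟨κ, _, A, hA, hcovA⟩ := exists_affine_refinement (O := (⊤ : (D.obj i₀).Opens))
    (by simpa using isCompact_univ) (fun _ : Unit => (⊤ : (D.obj i₀).Opens)) (fun x _ => ⟨(), trivial⟩)
  haveI := Fintype.ofFinite κ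
  let e := Fintype.equivFin κ
  obtain ⟨k, m, W, G, f, hG, hf, -⟩ := exists_model hc hF hfp (fun a => A (e.symm a)) fun a => (hA _).1
  haveI : CompactSpace (D.obj k) := QuasiCompact.compactSpace_of_compactSpace (D.map m)
  haveI : QuasiSeparatedSpace (D.obj k) := quasiSeparatedSpace_of_quasiSeparated (D.map m)
  haveI := isAffineHom_π_app D c hc k
  let U : Fin (Fintype.card κ) → (D.obj k).Opens := fun a => D.map m ⁻¹ᵁ A (e.symm a)
  have hcov : ∀ x, ∃ a, x ∈ U a := fun x => by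
    obtain ⟨b, hb⟩ := hcovA (D.map m x) trivial
    exact ⟨e b, by show D.map m x ∈ A (e.symm (e b)); rwa [e.symm_apply_apply]⟩
  refine ⟨k, m, G, hG, QCoh.isFP_of_finitePresentation hG (fun a : ULift.{u} (Fin (Fintype.card κ)) => U a.down)
    (top_le_iff.1 fun x _ => ?_) (fun a => (hf a.down).choose_spec.1) (fun a => (hf a.down).choose_spec.2.1), ?_⟩
  · obtain ⟨a, ha⟩ := hcov x
    exact Opens.mem_iSup.2 ⟨⟨a⟩, ha⟩
  let π := c.π.app k
  haveI : IsAffineHom (Over.mk π).hom := inferInstanceAs (IsAffineHom π)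
  have hWtop : W = ⊤ := top_le_iff.1 fun x _ => by
    obtain ⟨a, ha⟩ := hcov x
    exact (hf a).choose ha
  haveI : CompactSpace c.pt := QuasiCompact.compactSpace_of_compactSpace π
  haveI : QuasiSeparatedSpace c.pt := quasiSeparatedSpace_of_quasiSeparated π
  let W₀ := π ⁻¹ᵁ W
  have hW₀ : ∀ O : c.pt.Opens, O ≤ W₀ := fun O x _ => by
    show π x ∈ W
    rw [hWtop]
    trivial
  let ν : (Scheme.Modules.pullback π).obj G ⟶ (Loc W₀).obj F := raise π f (𝟙 (Pi c F k))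
  have hbig : ∀ a, Function.Bijective fun z => evIn W₀ F (hW₀ _) (ν.app (π ⁻¹ᵁ U a) z) := fun a => by
    obtain ⟨hle, hUaff, _, hbc⟩ := hf a
    exact IsBC.bijective_of_comp (S := Γ(c.pt, π ⁻¹ᵁ U a)) (φ := (π.app (U a)).hom)
      (N := Γ((Scheme.Modules.pullback π).obj G, π ⁻¹ᵁ U a)) (f := unitSec G (Over.mk π) (U a))
      (isBC_unitSec hG (Over.mk π) hUaff) hbc _ (fun x y => by rw [map_add, evIn_add])
      (fun r x => by rw [Scheme.Modules.Hom.app_smul, evIn_smul]) (fun x => evIn_raise π f (𝟙 _) hle x)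
  haveI : IsIso ν := by
    refine ZClosLib.isIso_of_good ν (fun B => IsAffineOpen B ∧ ∃ a, B ≤ π ⁻¹ᵁ U a) (fun O x hx => ?_) ?_
    · obtain ⟨a, ha⟩ := hcov (π x)
      obtain ⟨B, hB, hxB, hle⟩ := exists_isAffineOpen_mem_and_subset (x := x) (U := O ⊓ π ⁻¹ᵁ U a) ⟨hx, ha⟩
      exact ⟨B, fun y hy => (hle hy).1, hxB, hB, a, fun y hy => (hle hy).2⟩
    · rintro B ⟨hB, a, hle⟩
      have h := bijective_of_res (QCoh.isQCoh_pullback π hG) hF ((hf a).choose_spec.1.preimage π) hB hle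
        (fun z => evIn W₀ F (hW₀ _) (ν.app (π ⁻¹ᵁ U a) z)) (fun z => evIn W₀ F (hW₀ B) (ν.app B z))
        (fun x y => by rw [map_add, evIn_add]) (fun r x => by rw [Scheme.Modules.Hom.app_smul, evIn_smul])
        (fun x y => by rw [map_add, evIn_add]) (fun r x => by rw [Scheme.Modules.Hom.app_smul, evIn_smul])
        (hbig a) (fun x => by rw [app_res, evIn_res])
      exact ⟨fun x y e => h.1 (congrArg (evIn W₀ F (hW₀ B)) e), fun y => by
        obtain ⟨z, hz⟩ := h.2 (evIn W₀ F (hW₀ B) y)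
        exact ⟨z, (evIn_bijective _ _ _).1 hz⟩⟩
  haveI : IsIso (toLoc W₀ F) := ZClosLib.isIso_of_good _ (fun _ => True)
    (fun O x hx => ⟨O, le_rfl, hx, trivial⟩) fun B _ => by
      have h : ∀ s, evIn W₀ F (hW₀ B) ((toLoc W₀ F).app B s) = s := fun s => by
        unfold evIn
        rw [ev_toLoc, res_res, res_self]
      exact ⟨fun x y e => (h x).symm.trans ((congrArg (evIn W₀ F (hW₀ B)) e).trans (h y)), fun y =>
        ⟨evIn W₀ F (hW₀ B) y, (evIn_bijective _ _ _).1 (h _)⟩⟩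
  exact ⟨asIso ν ≪≫ (asIso (toLoc W₀ F)).symm⟩

end Groth.Agent.ModDescent24
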