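import Groth.Agent.ModDescent24.PullPush
import Groth.Agent.QCoh.PullbackBC
import Groth.Agent.FlatLimHx.Alg
import Mathlib.AlgebraicGeometry.AffineTransitionLimit
import Mathlib.CategoryTheory.Presentable.Directed

/-!
# `π_* π^* G` is the colimit of the `p_* p^* G` along a limit with affine transition maps
-/

set_option autoImplicit false
set_option linter.style.haveILetI false
set_option backward.isDefEq.respectTransparency false
set_option backward.isDefEq.respectTransparency.types false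
set_option maxHeartbeats 1000000

universe u

open CategoryTheory CategoryTheory.Limits AlgebraicGeometry TopologicalSpace Opposite TensorProduct

noncomputable section

namespace Groth.Agent.ModDescent24

section Sections

variable {T : Scheme.{u}}

/-- The inverse image of a section. -/
def unitSec (G : T.Modules) (w : Over T) (U : T.Opens) (x : Γ(G, U)) :
    Γ((Scheme.Modules.pullback w.hom).obj G, w.hom ⁻¹ᵁ U) :=
  (unit G w).app U x

variable {U : T.Opens} (hU : IsAffineOpen U) {G : T.Modules} (hG : Coh.IsQCoh G)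

/-- The scalars over an open of the base. -/
abbrev sectAlg (U : T.Opens) (w : Over T) : Algebra Γ(T, U) Γ(w.left, w.hom ⁻¹ᵁ U) :=
  (w.hom.app U).hom.toAlgebra

include hU hG in
/-- Sections of `w_* w^* G` over an affine open are a base change. -/
theorem exists_tensorEquiv (w : Over T) [IsAffineHom w.hom] :
    letI := sectAlg U w
    ∃ e : Γ(w.left, w.hom ⁻¹ᵁ U) ⊗[Γ(T, U)] Γ(G, U) ≃+
        Γ((Scheme.Modules.pullback w.hom).obj G, w.hom ⁻¹ᵁ U),
      ∀ b x, e (b ⊗ₜ x) = b • (unitSec G w U x) := by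
  letI := sectAlg U w
  let N := (Scheme.Modules.pullback w.hom).obj G
  letI : Module Γ(T, U) Γ(N, w.hom ⁻¹ᵁ U) := Module.compHom _ (w.hom.app U).hom
  haveI : IsScalarTower Γ(T, U) Γ(w.left, w.hom ⁻¹ᵁ U) Γ(N, w.hom ⁻¹ᵁ U) :=
    .of_algebraMap_smul fun _ _ => rfl
  let l : Γ(G, U) →ₗ[Γ(T, U)] Γ(N, w.hom ⁻¹ᵁ U) :=
    { toFun := fun x => (unit G w).app U x
      map_add' := fun x y => map_add ((unit G w).app U).hom x y
      map_smul' := fun r x => Scheme.Modules.Hom.app_smul (unit G w) _ _ }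
  have hl : IsBaseChange Γ(w.left, w.hom ⁻¹ᵁ U) l :=
    QCoh.isBaseChange_pullback hU w.hom (hU.preimage w.hom) hG le_rfl
      (fun r => by
        show w.hom.app U r = _
        rw [Scheme.Hom.app_eq_appLE]) l
      (fun x => (QCoh.map_id' (M := N) (homOfLE (le_refl (w.hom ⁻¹ᵁ U))) (unitSec G w U x)).symm)
  exact ⟨hl.equiv.toAddEquiv, fun b x => hl.equiv_tmul b x⟩

/-- The map of scalars along a map over `T`. -/
def overRingMap (U : T.Opens) {a b : Over T} (q : a ⟶ b) :
    letI := sectAlg U a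
    letI := sectAlg U b
    Γ(b.left, b.hom ⁻¹ᵁ U) →ₐ[Γ(T, U)] Γ(a.left, a.hom ⁻¹ᵁ U) :=
  letI := sectAlg U a
  letI := sectAlg U b
  { (q.left.appLE (b.hom ⁻¹ᵁ U) (a.hom ⁻¹ᵁ U) (preimage_over q U).le).hom with
    commutes' := fun r => by
      show (b.hom.app U ≫ q.left.appLE (b.hom ⁻¹ᵁ U) (a.hom ⁻¹ᵁ U) (preimage_over q U).le) r = a.hom.app U r
      rw [Scheme.Hom.app_eq_appLE, Scheme.Hom.appLE_comp_appLE, Scheme.Hom.app_eq_appLE]
      congr 2
      · congr 1
        exact Over.w q }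

/-- Transition maps in terms of tensor products. -/
theorem pullPush_map_tensor {a b : Over T} (q : a ⟶ b) :
    letI := sectAlg U a
    letI := sectAlg U b
    ∀ (ea : Γ(a.left, a.hom ⁻¹ᵁ U) ⊗[Γ(T, U)] Γ(G, U) ≃+
        Γ((Scheme.Modules.pullback a.hom).obj G, a.hom ⁻¹ᵁ U))
      (eb : Γ(b.left, b.hom ⁻¹ᵁ U) ⊗[Γ(T, U)] Γ(G, U) ≃+
        Γ((Scheme.Modules.pullback b.hom).obj G, b.hom ⁻¹ᵁ U))
      (_ : ∀ r x, ea (r ⊗ₜ x) = r • (unitSec G a U x))
      (_ : ∀ r x, eb (r ⊗ₜ x) = r • (unitSec G b U x))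
      (z : Γ(b.left, b.hom ⁻¹ᵁ U) ⊗[Γ(T, U)] Γ(G, U)),
      ((pullPush G).map q.op).app U (eb z) = ea ((overRingMap U q).toLinearMap.rTensor _ z) := by
  letI := sectAlg U a
  letI := sectAlg U b
  intro ea eb hea heb z
  induction z using TensorProduct.induction_on with
  | zero =>
    refine (congrArg _ (map_zero eb)).trans ((map_zero _).trans ?_)
    exact ((congrArg ea (map_zero _)).trans (map_zero ea)).symm
  | add x y hx hy =>
    refine (congrArg _ (map_add eb x y)).trans ((map_add _ _ _).trans ?_)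
    rw [hx, hy, map_add (((overRingMap U q).toLinearMap).rTensor Γ(G, U)) x y, map_add ea]
  | tmul r x =>
    rw [heb, LinearMap.rTensor_tmul, hea]
    refine (pullPush_map_app_smul G q U r _).trans ?_
    exact congrArg (fun t => q.left.appLE _ _ (preimage_over q U).le r • t)
      (pullPush_map_app_pullback G q U x)

end Sections

variable {I : Type u} [SmallCategory I] (D : I ⥤ Scheme.{u}) (c : Cone D) (i : I)

/-- The limit over the stage. -/
abbrev limOver : Over (D.obj i) := Over.mk (c.π.app i)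

/-- The projection to a later stage. -/
def limToStage (j : Over i) : limOver D c i ⟶ (Over.post D).obj j :=
  Over.homMk (c.π.app j.left) (c.w j.hom)

/-- The system `j ↦ p_{j*} p_j^* G`. -/
abbrev diagram (G : (D.obj i).Modules) : (Over i)ᵒᵖ ⥤ (D.obj i).Modules :=
  (Over.post D).op ⋙ pullPush G

/-- Its cocone towards `π_* π^* G`. -/
def cocone (G : (D.obj i).Modules) : Cocone (diagram D i G) where
  pt := (pullPush G).obj (op (limOver D c i))
  ι :=
    { app := fun j => (pullPush G).map (limToStage D c i j.unop).op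
      naturality := fun j k f => by
        refine Eq.trans ?_ (Category.comp_id _).symm
        show (pullPush G).map _ ≫ (pullPush G).map _ = (pullPush G).map _
        rw [← Functor.map_comp]
        congr 1
        apply Quiver.Hom.unop_inj
        ext1
        exact c.w f.unop.left }

theorem le_stage (j : Over i) (U : (D.obj i).Opens) :
    c.π.app i ⁻¹ᵁ U ≤ c.π.app j.left ⁻¹ᵁ (D.map j.hom ⁻¹ᵁ U) :=
  (preimage_over (limToStage D c i j) U).le

variable {D c i} [IsCofiltered I] (hc : IsLimit c)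

instance isAffineHom_post_obj [∀ {a b : I} (f : a ⟶ b), IsAffineHom (D.map f)] (j : Over i) :
    IsAffineHom ((Over.post D).obj j).hom :=
  inferInstanceAs (IsAffineHom (D.map j.hom))

include hc in
theorem isQuasiSeparated_of_stage [∀ {a b : I} (f : a ⟶ b), IsAffineHom (D.map f)]
    [QuasiSeparatedSpace (D.obj i)] : QuasiSeparatedSpace c.pt := by
  haveI := isAffineHom_π_app D c hc i
  exact quasiSeparatedSpace_of_quasiSeparated (c.π.app i)

include hc in
theorem exists_ring_stage [∀ {a b : I} (f : a ⟶ b), IsAffineHom (D.map f)] {U : (D.obj i).Opens}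
    (hU : IsAffineOpen U) (y : Γ(c.pt, c.π.app i ⁻¹ᵁ U)) :
    ∃ (j : Over i) (x : Γ(D.obj j.left, D.map j.hom ⁻¹ᵁ U)),
      (c.π.app j.left).appLE (D.map j.hom ⁻¹ᵁ U) (c.π.app i ⁻¹ᵁ U) (le_stage D c i j U) x = y := by
  haveI : ∀ j, IsAffine ((opensDiagram D i U).obj j) := fun j => hU.preimage (D.map j.hom)
  obtain ⟨j, t, ht⟩ := exists_appTop_π_eq_of_isAffine_of_isLimit (opensDiagram D i U) _
    (isLimitOpensCone D c hc i U) ((c.π.app i ⁻¹ᵁ U).topIso.inv y)
  refine ⟨j, (D.map j.hom ⁻¹ᵁ U).topIso.hom t, ?_⟩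
  have h := congrArg (fun s => (c.π.app i ⁻¹ᵁ U).topIso.hom s) ht
  simp only [opensCone] at h
  have hy : (c.π.app i ⁻¹ᵁ U).topIso.hom ((c.π.app i ⁻¹ᵁ U).topIso.inv y) = y :=
    ConcreteCategory.congr_hom (c.π.app i ⁻¹ᵁ U).topIso.inv_hom_id y
  refine Eq.trans ?_ (h.trans hy)
  rw [← ConcreteCategory.comp_apply]
  show _ = (((c.π.app j.left).resLE _ _ (preimage_over (limToStage D c i j) U).le).appTop ≫
    (c.π.app i ⁻¹ᵁ U).topIso.hom) t
  refine congrArg (fun f : Γ(↑(D.map j.hom ⁻¹ᵁ U), ⊤) ⟶ Γ(c.pt, c.π.app i ⁻¹ᵁ U) => f t) ?_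
  simp [Scheme.Hom.app_eq_appLE, Scheme.Hom.resLE_appLE, Scheme.Opens.topIso]
  rfl

include hc in
theorem exists_ring_zero [∀ {a b : I} (f : a ⟶ b), IsAffineHom (D.map f)] {U : (D.obj i).Opens}
    (hU : IsAffineOpen U) (j : Over i) (x : Γ(D.obj j.left, D.map j.hom ⁻¹ᵁ U))
    (hx : (c.π.app j.left).appLE (D.map j.hom ⁻¹ᵁ U) (c.π.app i ⁻¹ᵁ U)
      (le_stage D c i j U) x = 0) :
    ∃ (k : Over i) (m : k ⟶ j), overRingMap U ((Over.post D).map m) x = 0 := by
  have h0 : (c.π.app j.left).app (D.map j.hom ⁻¹ᵁ U) x = 0 := by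
    have he : c.π.app j.left ⁻¹ᵁ (D.map j.hom ⁻¹ᵁ U) = c.π.app i ⁻¹ᵁ U :=
      (preimage_over (limToStage D c i j) U).symm
    have h := congrArg (c.pt.presheaf.map (eqToHom he).op) hx
    rw [map_zero] at h
    refine Eq.trans ?_ h
    show _ = ((c.π.app j.left).appLE _ _ _ ≫ c.pt.presheaf.map _) x
    refine congrArg (fun f : Γ(D.obj j.left, D.map j.hom ⁻¹ᵁ U) ⟶
      Γ(c.pt, c.π.app j.left ⁻¹ᵁ (D.map j.hom ⁻¹ᵁ U)) => f x) ?_
    erw [Scheme.Hom.appLE_map]
    rw [Scheme.Hom.app_eq_appLE]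
  obtain ⟨k, f, hf⟩ := exists_app_map_eq_zero_of_isLimit D c hc (hU.preimage (D.map j.hom)).isCompact x h0
  refine ⟨Over.mk (f ≫ j.hom), Over.homMk f rfl, ?_⟩
  show (D.map f).appLE _ _ _ x = 0
  rw [Scheme.Hom.appLE, ConcreteCategory.comp_apply, hf, map_zero]

variable {α : Type u} [PartialOrder α]

/-- The stages after `F`, as objects over `D.obj i`. -/
abbrev stageObj (F : α ⥤ (Over i)ᵒᵖ) (k : α) : Over (D.obj i) := (Over.post D).obj (F.obj k).unop

/-- The transition between stages. -/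
abbrev stageMap (F : α ⥤ (Over i)ᵒᵖ) {k l : α} (h : k ≤ l) : stageObj (D := D) F l ⟶ stageObj F k :=
  (Over.post D).map (F.map (homOfLE h)).unop

include hc in
/-- The rings of sections over an affine open of the stages have colimit the ring of the limit. -/
theorem isColim_stages [∀ {a b : I} (f : a ⟶ b), IsAffineHom (D.map f)] [IsDirected α (· ≤ ·)] [Nonempty α]
    (F : α ⥤ (Over i)ᵒᵖ) [F.Final] {U : (D.obj i).Opens} (hU : IsAffineOpen U) :
    letI := fun v : Over (D.obj i) => sectAlg U v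
    FlatLimHx.IsColim (fun k l h => overRingMap U (stageMap (D := D) F (k := k) (l := l) h))
      (fun k => overRingMap U (limToStage D c i (F.obj k).unop)) := by
  letI : ∀ v : Over (D.obj i), Algebra Γ(D.obj i, U) Γ(v.left, v.hom ⁻¹ᵁ U) := sectAlg U
  haveI : IsFiltered α := isFiltered_of_directed_le_nonempty α
  let w : α → Over (D.obj i) := fun k => (Over.post D).obj (F.obj k).unop
  let g : ∀ k l, k ≤ l → Γ((w k).left, (w k).hom ⁻¹ᵁ U) →ₐ[Γ(D.obj i, U)] Γ((w l).left, (w l).hom ⁻¹ᵁ U) :=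
    fun k l h => overRingMap U ((Over.post D).map (F.map (homOfLE h)).unop)
  let π : ∀ k, Γ((w k).left, (w k).hom ⁻¹ᵁ U) →ₐ[Γ(D.obj i, U)] Γ((limOver D c i).left, (limOver D c i).hom ⁻¹ᵁ U) :=
    fun k => overRingMap U (limToStage D c i (F.obj k).unop)
  have hfin := (F.final_iff_of_isFiltered).1 inferInstance
  have hgπ : ∀ {a b d : Over (D.obj i)} (q : a ⟶ b) (r : b ⟶ d) z,
      overRingMap U q (overRingMap U r z) = overRingMap U (q ≫ r) z := fun {a b d} q r z => by
    show (r.left.appLE _ _ (preimage_over r U).le ≫ q.left.appLE _ _ (preimage_over q U).le) z = _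
    rw [Scheme.Hom.appLE_comp_appLE]
    rfl
  have hπ : ∀ {j k : Over i} (m : k ⟶ j),
      limToStage D c i k ≫ (Over.post D).map m = limToStage D c i j := fun m => by
    ext1; exact c.w m.left
  show FlatLimHx.IsColim g π
  refine ⟨inferInstance, inferInstance, fun k x => ?_, fun k l n hkl hln x => ?_, fun k l h x => ?_,
    fun y => ?_, fun k x hx => ?_⟩
  · show overRingMap U ((Over.post D).map (F.map (homOfLE (le_refl k))).unop) x = x
    rw [show homOfLE (le_refl k) = 𝟙 k from Subsingleton.elim _ _, F.map_id, unop_id, CategoryTheory.Functor.map_id]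
    show ((𝟙 (w k).left : _ ⟶ _).appLE _ _ _) x = x
    simp [Scheme.Hom.appLE]
    erw [CategoryTheory.Functor.map_id]
    rfl
  · show overRingMap U _ (overRingMap U _ x) = overRingMap U _ x
    rw [hgπ, show homOfLE (hkl.trans hln) = homOfLE hkl ≫ homOfLE hln from Subsingleton.elim _ _,
      F.map_comp, unop_comp, Functor.map_comp]
  · show overRingMap U _ (overRingMap U _ x) = overRingMap U _ x
    rw [hgπ, hπ]
  · obtain ⟨j, x, hx⟩ := exists_ring_stage hc hU y
    obtain ⟨k, ⟨m⟩⟩ := hfin.1 (op j)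
    refine ⟨k, overRingMap U (a := w k) (b := (Over.post D).obj j) ((Over.post D).map m.unop) x, ?_⟩
    refine (hgπ (limToStage D c i (F.obj k).unop) ((Over.post D).map m.unop : w k ⟶ (Over.post D).obj j) x).trans ?_
    rw [hπ]
    exact hx
  · obtain ⟨j, m, hm⟩ := exists_ring_zero hc hU (F.obj k).unop x hx
    obtain ⟨l, ⟨n⟩⟩ := hfin.1 (op j)
    obtain ⟨l', hkl, hll⟩ := directed_of (· ≤ ·) k l
    obtain ⟨l'', t, ht⟩ := hfin.2 (F.map (homOfLE hkl)) (m.op ≫ n ≫ F.map (homOfLE hll))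
    refine ⟨l'', hkl.trans (leOfHom t), ?_⟩
    show overRingMap U _ x = 0
    rw [show homOfLE (hkl.trans (leOfHom t)) = homOfLE hkl ≫ t from Subsingleton.elim _ _, F.map_comp, ht]
    simp only [unop_comp, Quiver.Hom.unop_op, Functor.map_comp, Category.assoc]
    rw [← hgπ, ← hgπ, ← hgπ, hm, map_zero, map_zero, map_zero]

include hc in
/-- `π_* π^* G` is the colimit of the `p_{j*} p_j^* G`. -/
theorem nonempty_isColimit_cocone [∀ {a b : I} (f : a ⟶ b), IsAffineHom (D.map f)]
    [QuasiSeparatedSpace (D.obj i)] {G : (D.obj i).Modules} (hG : Coh.IsQCoh G) :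
    Nonempty (IsColimit (cocone D c i G)) := by
  obtain ⟨α, _, _, _, F, _⟩ := IsFiltered.exists_directed (Over i)ᵒᵖ
  haveI : IsFiltered α := isFiltered_of_directed_le_nonempty α
  haveI := isAffineHom_π_app D c hc i
  haveI : IsAffineHom (limOver D c i).hom := inferInstanceAs (IsAffineHom (c.π.app i))
  refine ⟨Functor.Final.isColimitWhiskerEquiv F _ ?_⟩
  let K := (cocone D c i G).whisker F
  let hd := colimit.isColimit (F ⋙ diagram D i G)
  let φ : colimit (F ⋙ diagram D i G) ⟶ K.pt := colimit.desc (F ⋙ diagram D i G) K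
  have hι : ∀ (k : α) (V : (D.obj i).Opens) t,
      φ.app V ((colimit.ι (F ⋙ diagram D i G) k).app V t) = (K.ι.app k).app V t := fun k V t =>
    congrArg (fun q => q.app V t) (colimit.ι_desc K k)
  suffices hφ : IsIso φ from @IsColimit.ofPointIso _ _ _ _ _ _ K hd hφ
  refine RPSM.isIso_of_bijective_affines φ fun U => ?_
  let w : α → Over (D.obj i) := fun k => (Over.post D).obj (F.obj k).unop
  haveI hw : ∀ k, IsAffineHom (w k).hom := fun k => isAffineHom_post_obj (F.obj k).unop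
  let R := Γ(D.obj i, U.1)
  letI : ∀ v : Over (D.obj i), Algebra R Γ(v.left, v.hom ⁻¹ᵁ U.1) := sectAlg U.1
  let g : ∀ k l, k ≤ l → Γ((w k).left, (w k).hom ⁻¹ᵁ U.1) →ₐ[R] Γ((w l).left, (w l).hom ⁻¹ᵁ U.1) :=
    fun k l h => overRingMap U.1 ((Over.post D).map (F.map (homOfLE h)).unop)
  let π : ∀ k, Γ((w k).left, (w k).hom ⁻¹ᵁ U.1) →ₐ[R] Γ((limOver D c i).left, (limOver D c i).hom ⁻¹ᵁ U.1) :=
    fun k => overRingMap U.1 (limToStage D c i (F.obj k).unop)
  have hC := isColim_stages (c := c) hc F U.2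
  have hE : ∀ v : Over (D.obj i), IsAffineHom v.hom → ∃ e : Γ(v.left, v.hom ⁻¹ᵁ U.1) ⊗[R] Γ(G, U.1) ≃+
      Γ((Scheme.Modules.pullback v.hom).obj G, v.hom ⁻¹ᵁ U.1),
      ∀ b x, e (b ⊗ₜ x) = b • (unitSec G v U.1 x) := fun v hv => exists_tensorEquiv U.2 hG v
  choose e he using fun k => hE (w k) (hw k)
  obtain ⟨eL, heL⟩ := hE (limOver D c i) inferInstance
  refine ⟨?_, fun y => ?_⟩
  · rw [injective_iff_map_eq_zero]
    intro z hz
    obtain ⟨k, t, rfl⟩ := RPSM.exists_stage hd U.2.isCompact z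
    obtain ⟨s, rfl⟩ := (e k).surjective t
    have h0 : eL ((π k).toLinearMap.rTensor _ s) = 0 :=
      (pullPush_map_tensor _ eL (e k) heL (he k) s).symm.trans ((hι k U.1 _).symm.trans hz)
    obtain ⟨l, hkl, hl⟩ := hC.exists_eq_zero _ s (eL.map_eq_zero_iff.1 h0)
    have h1 : ((F ⋙ diagram D i G).map (homOfLE hkl)).app U.1 (e k s) = 0 :=
      (pullPush_map_tensor ((Over.post D).map (F.map (homOfLE hkl)).unop) (e l) (e k) (he l) (he k) s).trans
        ((congrArg (e l) hl).trans (map_zero _))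
    rw [← RPSM.ι_map_app (colimit.cocone (F ⋙ diagram D i G)) hkl U.1 (e k s)]
    exact (congrArg ((colimit.ι (F ⋙ diagram D i G) l).app U.1) h1).trans (map_zero _)
  · obtain ⟨t, rfl⟩ := eL.surjective y
    obtain ⟨k, s, rfl⟩ := hC.exists_tensor _ t
    exact ⟨(colimit.ι (F ⋙ diagram D i G) k).app U.1 (e k s),
      (hι k U.1 _).trans (pullPush_map_tensor _ eL (e k) heL (he k) s)⟩

end Groth.Agent.ModDescent24
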