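import Groth.Agent.ModDescent24.IsBC
import Groth.Agent.FlatLimHx.Alg

/-!
# Finitely presented modules descend to a stage of a directed colimit of rings
-/

set_option autoImplicit false
set_option linter.style.haveILetI false

universe u

open TensorProduct

namespace Groth.Agent.ModDescent24

variable {R : Type u} [CommRing R] {ι : Type u} [Preorder ι] {G : ι → Type u} [∀ i, CommRing (G i)]
  [∀ i, Algebra R (G i)] {g : ∀ i j, i ≤ j → G i →ₐ[R] G j} {A : Type u} [CommRing A] [Algebra R A]
  {a : ∀ i, G i →ₐ[R] A}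

/-- A quotient of a free module by lifted relations is a base change. -/
theorem isBC_quotient {S B : Type u} [CommRing S] [CommRing B] (φ : S →+* B) {N : Type u} [AddCommGroup N]
    [Module B N] {n m : ℕ} (f : (Fin n → B) →ₗ[B] N) (hf : Function.Surjective f) (k : Fin m → Fin n → S)
    (hker : LinearMap.ker f = Submodule.span B (Set.range fun r b => φ (k r b))) :
    ∃ l : ((Fin n → S) ⧸ Submodule.span S (Set.range k)) → N, IsBC φ l := by
  classical
  let K := Submodule.span S (Set.range k)
  let := φ.toAlgebra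
  let := Module.compHom N φ
  haveI : IsScalarTower S B N := .of_algebraMap_smul fun _ _ => rfl
  let f' : (Fin n → S) →ₗ[S] N := (f.restrictScalars S).comp (LinearMap.funLeft S B id ∘ₗ
    { toFun := fun v b => φ (v b), map_add' := fun v w => funext fun b => map_add φ _ _,
      map_smul' := fun s v => funext fun b => map_mul φ _ _ })
  have hf' : ∀ v, f' v = f (fun b => φ (v b)) := fun _ => rfl
  have hK : K ≤ LinearMap.ker f' := Submodule.span_le.2 (by
    rintro _ ⟨r, rfl⟩
    show f' (k r) = 0
    rw [hf', ← LinearMap.mem_ker, hker]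
    exact Submodule.subset_span ⟨r, rfl⟩)
  let l := K.liftQ f' hK
  refine ⟨l, l, fun _ => rfl, ?_⟩
  let e : Fin n → B ⊗[S] ((Fin n → S) ⧸ K) := fun b => 1 ⊗ₜ K.mkQ (Pi.single b 1)
  let ψ : (Fin n → B) →ₗ[B] B ⊗[S] ((Fin n → S) ⧸ K) := Fintype.linearCombination B e
  have hψ : ∀ v : Fin n → S, ψ (fun b => φ (v b)) = 1 ⊗ₜ K.mkQ v := fun v => by
    show Fintype.linearCombination B e _ = _
    rw [Fintype.linearCombination_apply]
    conv_rhs => rw [pi_eq_sum_univ' v, map_sum, tmul_sum]
    refine Finset.sum_congr rfl fun b _ => ?_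
    rw [map_smul, tmul_smul, ← algebraMap_smul B (v b)]
    rfl
  have hψK : LinearMap.ker f ≤ LinearMap.ker ψ := by
    rw [hker, Submodule.span_le]
    rintro _ ⟨r, rfl⟩
    show ψ _ = 0
    rw [hψ, show K.mkQ (k r) = 0 from (Submodule.Quotient.mk_eq_zero K).2 (Submodule.subset_span ⟨r, rfl⟩), tmul_zero]
  let L : B ⊗[S] ((Fin n → S) ⧸ K) →ₗ[B] N := l.liftBaseChange B
  have hL : ∀ v : Fin n → B, L (ψ v) = f v := fun v => by
    suffices L ∘ₗ ψ = f from LinearMap.congr_fun this v
    refine LinearMap.pi_ext' fun b => LinearMap.ext_ring ?_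
    show L (ψ (Pi.single b 1)) = f (Pi.single b 1)
    rw [show (Pi.single b 1 : Fin n → B) = fun b' => φ ((Pi.single b 1 : Fin n → S) b') from by
      funext b'
      rcases eq_or_ne b' b with rfl | hb
      · simp
      · simp [hb], hψ]
    show (1 : B) • f' (Pi.single b 1) = _
    rw [one_smul, hf']
  have hψs : ∀ z, ∃ v, ψ v = z := fun z => by
    induction z using TensorProduct.induction_on with
    | zero => exact ⟨0, map_zero _⟩
    | add x y hx hy => obtain ⟨v, rfl⟩ := hx; obtain ⟨w, rfl⟩ := hy; exact ⟨v + w, map_add _ _ _⟩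
    | tmul s q =>
      obtain ⟨v, rfl⟩ := K.mkQ_surjective q
      exact ⟨s • fun b => φ (v b), by rw [map_smul, hψ, smul_tmul', smul_eq_mul, mul_one]⟩
  refine IsBaseChange.of_equiv (LinearEquiv.ofBijective L ⟨?_, fun y => ?_⟩) fun q => ?_
  · rw [injective_iff_map_eq_zero]
    intro z hz
    obtain ⟨v, rfl⟩ := hψs z
    exact hψK (show f v = 0 by rw [← hL, hz])
  · obtain ⟨v, rfl⟩ := hf y
    exact ⟨ψ v, hL v⟩
  · show (1 : B) • l q = l q
    rw [one_smul]

/-- A finitely presented module over a directed colimit of rings comes from a stage. -/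
theorem exists_module_stage (h : FlatLimHx.IsColim g a) (N : Type u) [AddCommGroup N] [Module A N]
    [Module.FinitePresentation A N] :
    ∃ (i : ι) (M : Type u) (_ : AddCommGroup M) (_ : Module (G i) M) (_ : Module.FinitePresentation (G i) M)
      (f : M → N), IsBC (a i).toRingHom f := by
  classical
  obtain ⟨n, m, f, r, hf, hex⟩ := Module.FinitePresentation.exists_fin' A N
  let coeff : Fin m × Fin n → A := fun p => r (Pi.single p.1 1) p.2
  choose st x hx using fun p => h.surj (coeff p)
  obtain ⟨i, hi⟩ := h.upper Finset.univ st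
  let k : Fin m → Fin n → G i := fun p q => g (st (p, q)) i (hi _ (Finset.mem_univ _)) (x (p, q))
  have hk : ∀ p q, a i (k p q) = r (Pi.single p 1) q := fun p q => by
    show a i (g _ _ _ _) = _
    rw [h.compat, hx]
  have hker : LinearMap.ker f = Submodule.span A (Set.range fun p q => (a i).toRingHom (k p q)) := by
    rw [LinearMap.exact_iff.1 hex, ← Submodule.map_top, ← (Pi.basisFun A (Fin m)).span_eq,
      Submodule.map_span, ← Set.range_comp]
    congr 1
    refine congrArg Set.range (funext fun p => funext fun q => ?_)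
    rw [Function.comp_apply, Pi.basisFun_apply]
    exact (hk p q).symm
  obtain ⟨l, hl⟩ := isBC_quotient (a i).toRingHom f hf k hker
  exact ⟨i, _, inferInstance, inferInstance,
    Module.finitePresentation_of_free_of_surjective (Submodule.mkQ _) (Submodule.mkQ_surjective _)
      (by rw [Submodule.ker_mkQ]; exact Submodule.fg_span (Set.finite_range _)), l, hl⟩

end Groth.Agent.ModDescent24
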