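import Groth.Agent.ModDescent24.Stage
import Groth.Agent.ModDescent24.AffineAlg
import Groth.Agent.QCoh.FT

/-!
# Models over an affine open of a stage
-/

set_option autoImplicit false
set_option linter.style.haveILetI false
set_option backward.isDefEq.respectTransparency false
set_option backward.isDefEq.respectTransparency.types false
set_option maxHeartbeats 1000000

universe u

open CategoryTheory CategoryTheory.Limits AlgebraicGeometry TopologicalSpace Opposite

noncomputable section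

namespace Groth.Agent.ModDescent24

open ZClosLib (res res_res res_self app_res)

/-- The direct image from the chart of an affine open as a localisation. -/
theorem exists_chartLoc {X : Scheme.{u}} {V : X.Opens} (hV : IsAffineOpen V) (P : X.Modules) :
    ∃ ρ : (Scheme.Modules.pushforward hV.fromSpec).obj (P.restrict hV.fromSpec) ⟶ (Loc V).obj P,
      ∀ (O : X.Opens) (h : V ⊓ O ≤ hV.fromSpec ''ᵁ (hV.fromSpec ⁻¹ᵁ O)) s, ev V P O (ρ.app O s) =
        res P h (show Γ(P, hV.fromSpec ''ᵁ (hV.fromSpec ⁻¹ᵁ O)) from s) := by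
  have hc : ∀ O : X.Opens, hV.fromSpec ''ᵁ (hV.fromSpec ⁻¹ᵁ O) = V ⊓ O := fun O => by
    rw [Scheme.Hom.image_preimage_eq_opensRange_inf, hV.opensRange_fromSpec]
  obtain ⟨ρ, hρ⟩ := exists_homToLoc (W := V)
    (M := (Scheme.Modules.pushforward hV.fromSpec).obj (P.restrict hV.fromSpec)) (N := P)
    (fun O s => res P (hc O).ge (show Γ(P, hV.fromSpec ''ᵁ (hV.fromSpec ⁻¹ᵁ O)) from s))
    (fun O s t => map_add (P.presheaf.map _).hom _ _)
    (fun O r s => by
      have hr : (r • s : Γ((Scheme.Modules.pushforward hV.fromSpec).obj (P.restrict hV.fromSpec), O)) =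
          (show Γ(P, hV.fromSpec ''ᵁ (hV.fromSpec ⁻¹ᵁ O)) from
            X.presheaf.map (homOfLE ((hc O).le.trans inf_le_right)).op r •
              (show Γ(P, hV.fromSpec ''ᵁ (hV.fromSpec ⁻¹ᵁ O)) from s)) := by
        refine (QCoh.pushforward_smul hV.fromSpec O r _).trans ?_
        exact congrArg (fun (x : Γ(X, hV.fromSpec ''ᵁ (hV.fromSpec ⁻¹ᵁ O))) =>
            x • (show Γ(P, hV.fromSpec ''ᵁ (hV.fromSpec ⁻¹ᵁ O)) from s))
          (ConcreteCategory.congr_hom (Scheme.Hom.app_appIso_inv hV.fromSpec O) r)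
      rw [hr, res, QCoh.map_smul']
      exact congrArg (fun (x : Γ(X, V ⊓ O)) => x • _) (QCoh.ringMap_map _ _ r))
    (fun {O O'} h s => by
      show res P _ (res P ((hc O').le.trans ((inf_le_inf_left V h).trans (hc O).ge))
        (show Γ(P, hV.fromSpec ''ᵁ (hV.fromSpec ⁻¹ᵁ O)) from s)) = _
      rw [res_res, res_res])
  exact ⟨ρ, fun O _ s => hρ O s⟩

variable {I : Type u} [SmallCategory I] [IsCofiltered I] {D : I ⥤ Scheme.{u}} {c : Cone D}
  (hc : IsLimit c) {F : c.pt.Modules}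

/-- A finitely presented module over an affine open of a stage as a model. -/
theorem exists_good_of_isBC {k : I} [QuasiSeparatedSpace (D.obj k)] {V : (D.obj k).Opens} (hV : IsAffineOpen V)
    (M : ModuleCat.{u} Γ(D.obj k, V)) [Module.FinitePresentation Γ(D.obj k, V) M]
    {f₀ : M → Γ(F, c.π.app k ⁻¹ᵁ V)} (h₀ : IsBC ((c.π.app k).app V).hom f₀) :
    ∃ (G : (D.obj k).Modules) (f : G ⟶ (Loc V).obj (Pi c F k)), Coh.IsQCoh G ∧ Good c f V := by
  let R := Γ(D.obj k, V)
  let P := Pi c F k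
  let j := hV.fromSpec
  haveI : QuasiCompact j := inferInstanceAs (QuasiCompact hV.fromSpec)
  haveI : QuasiSeparated j := inferInstanceAs (QuasiSeparated hV.fromSpec)
  let lin₀ : M →ₗ[Γ(D.obj k, V)] (moduleSpecΓFunctor (R := Γ(D.obj k, V))).obj (P.restrict hV.fromSpec) :=
    { toFun := fun x => QCoh.toChart hV P (show Γ(P, V) from f₀ x)
      map_add' := fun x y => by
        rw [← QCoh.toChart_add]
        exact congrArg (QCoh.toChart hV P) (h₀.map_add x y)
      map_smul' := fun r x => by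
        refine Eq.trans ?_ (QCoh.toChart_smul hV P r _)
        refine congrArg (QCoh.toChart hV P) ?_
        exact (h₀.map_smul r x).trans (QCoh.pushforward_smul (c.π.app k) V r (f₀ x)).symm }
  let lin' := ModuleCat.ofHom lin₀
  let lin : M ⟶ moduleSpecΓFunctor.obj (P.restrict j) := lin'
  let g : tilde M ⟶ P.restrict j := (tilde.adjunction.homEquiv M (P.restrict j)).symm lin
  have hg : ∀ x : M, g.app ⊤ (tilde.toOpen M ⊤ x) = QCoh.toChart hV P (show Γ(P, V) from f₀ x) := fun x => by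
    have h := congrArg (fun t : M ⟶ moduleSpecΓFunctor.obj (P.restrict j) => t.hom x)
      ((tilde.adjunction.homEquiv_unit _ _ g).symm.trans
        ((tilde.adjunction.homEquiv M (P.restrict j)).apply_symm_apply lin))
    exact h
  let G := (Scheme.Modules.pushforward j).obj (tilde M)
  obtain ⟨ρ, hρ⟩ := exists_chartLoc hV P
  let f : G ⟶ (Loc V).obj P := (Scheme.Modules.pushforward j).map g ≫ ρ
  have hpre : j ⁻¹ᵁ V = ⊤ := hV.fromSpec_preimage_self
  let e : M → Γ(G, V) := fun x => res (tilde M) hpre.le (tilde.toOpen M ⊤ x)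
  have headd : ∀ x y, e (x + y) = e x + e y := fun x y => by
    show res (tilde M) _ _ = _
    rw [map_add]
    exact map_add ((tilde M).presheaf.map _).hom _ _
  have hesmul : ∀ (r : R) x, e (r • x) = r • e x := fun r x => by
    refine Eq.trans ?_ (QCoh.pushforward_smul j V r (e x)).symm
    have h1 : (show Γ(tilde M, ⊤) from tilde.toOpen M ⊤ (r • x)) =
        r • (show Γ(tilde M, ⊤) from tilde.toOpen M ⊤ x) := LinearMap.map_smul (tilde.toOpen M ⊤).hom r x
    show res (tilde M) _ (show Γ(tilde M, ⊤) from tilde.toOpen M ⊤ (r • x)) = _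
    rw [h1, Scheme.Modules.smul_Spec_def, res, QCoh.map_smul', hV.fromSpec_app_self]
    refine congrArg (fun (t : Γ(Spec R, j ⁻¹ᵁ V)) => t • _) ?_
    refine (QCoh.ringMap_map (X := Spec R) _ _ _).trans ?_
    rfl
  have hebij : Function.Bijective e := by
    refine ⟨fun x y h => ?_, fun z => ?_⟩
    · refine (ConcreteCategory.bijective_of_isIso (tilde.toOpen M ⊤)).1 ?_
      have := congrArg (res (tilde M) hpre.ge) h
      rwa [res_res, res_self, res_res, res_self] at this
    · obtain ⟨x, hx⟩ := (ConcreteCategory.bijective_of_isIso (tilde.toOpen M ⊤)).2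
        (res (tilde M) hpre.ge (show Γ(tilde M, j ⁻¹ᵁ V) from z))
      refine ⟨x, ?_⟩
      show res (tilde M) _ _ = _
      rw [hx, res_res, res_self]
  have he : IsBC (RingHom.id R) e := IsBC.of_bijective headd hesmul hebij
  have hfe : ∀ x, secF f (le_refl V) (e x) = f₀ x := fun x => by
    have hc : V ⊓ V ≤ j ''ᵁ (j ⁻¹ᵁ V) := by
      rw [Scheme.Hom.image_preimage_eq_opensRange_inf, hV.opensRange_fromSpec]
    show res P (le_inf le_rfl le_rfl) (ev V P V (ρ.app V (g.app (j ⁻¹ᵁ V) (e x)))) = _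
    have hgx : g.app (j ⁻¹ᵁ V) (e x) =
        res (P.restrict j) hpre.le (QCoh.toChart hV P (show Γ(P, V) from f₀ x)) := by
      rw [← hg x]
      exact app_res g hpre.le _
    rw [hρ V hc, hgx]
    have himg : j ''ᵁ (j ⁻¹ᵁ V) ≤ j ''ᵁ ⊤ := j.image_mono hpre.le
    show res P (le_inf le_rfl le_rfl) (res P hc (res P himg
      (res P (QCoh.image_top_fromSpec hV).le (show Γ(P, V) from f₀ x)))) = _
    rw [res_res, res_res, res_res]
    exact res_self P _ _
  refine ⟨G, f, QCoh.isQCoh_pushforward j (inferInstance : (tilde M).IsQuasicoherent), le_refl V, hV,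
    he.finitePresentation, he.of_comp (secF_add f _) (secF_smul f _) ?_⟩
  exact h₀.congr (RingHom.comp_id _).symm fun x => (hfe x).symm

include hc in
/-- Models over an affine open exist at a later stage. -/
theorem exists_good_affine [∀ {a b : I} (f : a ⟶ b), IsAffineHom (D.map f)] (hF : Coh.IsQCoh F)
    (hfp : CohB1.IsFP F) {i : I} [QuasiSeparatedSpace (D.obj i)] {V : (D.obj i).Opens} (hV : IsAffineOpen V) :
    ∃ (k : I) (m : k ⟶ i) (G : (D.obj k).Modules) (f : G ⟶ (Loc (D.map m ⁻¹ᵁ V)).obj (Pi c F k)),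
      Coh.IsQCoh G ∧ Good c f (D.map m ⁻¹ᵁ V) := by
  obtain ⟨α, _, _, _, Fn, _⟩ := IsFiltered.exists_directed (Over i)ᵒᵖ
  letI : ∀ v : Over (D.obj i), Algebra Γ(D.obj i, V) Γ(v.left, v.hom ⁻¹ᵁ V) := sectAlg V
  haveI := isAffineHom_π_app D c hc i
  have hC := isColim_stages (c := c) hc Fn hV
  letI : Module Γ((limOver D c i).left, (limOver D c i).hom ⁻¹ᵁ V) Γ(F, c.π.app i ⁻¹ᵁ V) :=
    inferInstanceAs (Module Γ(c.pt, c.π.app i ⁻¹ᵁ V) Γ(F, c.π.app i ⁻¹ᵁ V))
  haveI : Module.FinitePresentation Γ((limOver D c i).left, (limOver D c i).hom ⁻¹ᵁ V) Γ(F, c.π.app i ⁻¹ᵁ V) :=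
    QCoh.finitePresentation_of_isFP hfp (hV.preimage (c.π.app i))
  obtain ⟨a, M, instA, instM, instF, f₁, hf₁⟩ := exists_module_stage hC Γ(F, c.π.app i ⁻¹ᵁ V)
  let o := (Fn.obj a).unop
  haveI := isAffineHom_π_app D c hc o.left
  haveI : QuasiSeparatedSpace (D.obj o.left) := quasiSeparatedSpace_of_quasiSeparated (D.map o.hom)
  letI : Module Γ(D.obj o.left, D.map o.hom ⁻¹ᵁ V) M := instM
  haveI : Module.FinitePresentation Γ(D.obj o.left, D.map o.hom ⁻¹ᵁ V) M := instF
  let hle := (preimage_stage (c := c) o.hom V).le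
  have hU₁ : IsAffineOpen (c.π.app i ⁻¹ᵁ V) := hV.preimage _
  have hU₂ : IsAffineOpen (c.π.app o.left ⁻¹ᵁ (D.map o.hom ⁻¹ᵁ V)) := (hV.preimage _).preimage _
  have hres := isBC_res hF hU₁ hU₂ hle
  obtain ⟨G, f, hG, hgood⟩ := exists_good_of_isBC (c := c) (F := F) (hV.preimage (D.map o.hom))
    (ModuleCat.of Γ(D.obj o.left, D.map o.hom ⁻¹ᵁ V) M)
    (f₀ := fun x => res F hle (f₁ x)) ((hf₁.comp hres).congr
      (congrArg CommRingCat.Hom.hom (show (c.π.app o.left).appLE (D.map o.hom ⁻¹ᵁ V) (c.π.app i ⁻¹ᵁ V)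
        (le_stage D c i o V) ≫ c.pt.presheaf.map (homOfLE hle).op = (c.π.app o.left).app (D.map o.hom ⁻¹ᵁ V) by
        rw [Scheme.Hom.app_eq_appLE]
        exact Scheme.Hom.appLE_map _ _ _)) fun _ => rfl)
  exact ⟨o.left, o.hom, G, f, hG, hgood⟩

end Groth.Agent.ModDescent24
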