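import Groth.Agent.ModDescent24.HomDescent

/-!
# A map between models becomes bijective at a stage
-/

set_option autoImplicit false
set_option linter.style.haveILetI false
set_option backward.isDefEq.respectTransparency false
set_option backward.isDefEq.respectTransparency.types false
set_option maxHeartbeats 1000000

universe u

open CategoryTheory CategoryTheory.Limits AlgebraicGeometry TopologicalSpace Opposite TensorProduct

noncomputable section

namespace Groth.Agent.ModDescent24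

open ZClosLib (res res_res res_self app_res res_eq_of_cover exists_glue)

/-- Bijectivity after a base change persists to further base changes. -/
theorem bijective_lTensor_of_algHom {R A B : Type u} [CommRing R] [CommRing A] [CommRing B] [Algebra R A]
    [Algebra R B] (g : A →ₐ[R] B) {M N : Type u} [AddCommGroup M] [Module R M] [AddCommGroup N] [Module R N]
    (φ : M →ₗ[R] N) (h : Function.Bijective (φ.lTensor A)) : Function.Bijective (φ.lTensor B) := by
  letI : Algebra A B := g.toRingHom.toAlgebra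
  haveI : IsScalarTower R A B := IsScalarTower.of_algebraMap_eq fun r => (g.commutes r).symm
  let eM := AlgebraTensorModule.cancelBaseChange R A A B M
  let eN := AlgebraTensorModule.cancelBaseChange R A A B N
  let e : (A ⊗[R] M) ≃ₗ[A] (A ⊗[R] N) := LinearEquiv.ofBijective (φ.baseChange A) h
  let E : (B ⊗[A] (A ⊗[R] M)) ≃ₗ[A] (B ⊗[A] (A ⊗[R] N)) := TensorProduct.congr (LinearEquiv.refl A B) e
  have hnat : ∀ z, φ.lTensor B (eM z) = eN (E z) := fun z => by
    induction z with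
    | zero => simp only [map_zero]
    | add x y hx hy => simp only [map_add, hx, hy]
    | tmul b w =>
      induction w with
      | zero => simp only [tmul_zero, map_zero]
      | add x y hx hy => simp only [tmul_add, map_add, hx, hy]
      | tmul a m =>
        show φ.lTensor B (eM (b ⊗ₜ (a ⊗ₜ m))) = eN (b ⊗ₜ (a ⊗ₜ φ m))
        simp [eM, eN]
  rw [show (φ.lTensor B : B ⊗[R] M → B ⊗[R] N) = eN ∘ E ∘ eM.symm from funext fun y => by
    rw [Function.comp_apply, Function.comp_apply, ← hnat, eM.apply_symm_apply]]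
  exact eN.bijective.comp (E.bijective.comp eM.symm.bijective)

section Local

variable {T : Scheme.{u}} {W WV : T.Opens} {G₁ G₂ : T.Modules}

/-- A map into a localisation, bijective on a basis of opens inside, is bijective on all opens inside. -/
theorem bijective_evIn_of_cover (θ : G₁ ⟶ (Loc WV).obj G₂) (P : T.Opens → Prop)
    (hP : ∀ x ∈ WV, ∀ O : T.Opens, x ∈ O → ∃ A, A ≤ O ∧ A ≤ WV ∧ x ∈ A ∧ P A)
    (h : ∀ (A : T.Opens) (hA : A ≤ WV), P A → Function.Bijective fun s => evIn WV G₂ hA (θ.app A s))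
    {O : T.Opens} (hO : O ≤ WV) : Function.Bijective fun s => evIn WV G₂ hO (θ.app O s) := by
  have key : ∀ {O' O : T.Opens} (hO : O ≤ WV) (h' : O' ≤ O) (s : Γ(G₁, O)),
      evIn WV G₂ (h'.trans hO) (θ.app O' (res G₁ h' s)) = res G₂ h' (evIn WV G₂ hO (θ.app O s)) :=
    fun hO h' s => by rw [app_res, evIn_res]
  have inj : ∀ {O : T.Opens} (hO : O ≤ WV), Function.Injective fun s => evIn WV G₂ hO (θ.app O s) := by
    intro O hO s t e
    choose A hA hAWV hxA hPA using fun x : O => hP x.1 (hO x.2) O x.2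
    refine res_eq_of_cover G₁ A hA (fun x hx => ⟨⟨x, hx⟩, hxA ⟨x, hx⟩⟩) s t fun x => (h _ (hAWV x) (hPA x)).1 ?_
    show evIn WV G₂ (hAWV x) _ = evIn WV G₂ (hAWV x) _
    exact (key hO (hA x) s).trans ((congrArg (res G₂ (hA x)) e).trans (key hO (hA x) t).symm)
  refine ⟨inj hO, fun y => ?_⟩
  choose A hA hAWV hxA hPA using fun x : O => hP x.1 (hO x.2) O x.2
  choose s hs using fun x => (h _ (hAWV x) (hPA x)).2 (res G₂ (hA x) y)
  obtain ⟨t, ht⟩ := exists_glue G₁ A hA (fun x hx => ⟨⟨x, hx⟩, hxA ⟨x, hx⟩⟩) s fun a b => by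
    refine inj ((inf_le_left).trans (hAWV a)) ?_
    refine (key (hAWV a) inf_le_left (s a)).trans (Eq.trans ?_ (key (hAWV b) inf_le_right (s b)).symm)
    refine (congrArg (res G₂ inf_le_left) (hs a)).trans (Eq.trans ?_ (congrArg (res G₂ inf_le_right) (hs b)).symm)
    rw [res_res, res_res]
  refine ⟨t, res_eq_of_cover G₂ A hA (fun x hx => ⟨⟨x, hx⟩, hxA ⟨x, hx⟩⟩) _ _ fun x => ?_⟩
  refine (key hO (hA x) t).symm.trans ?_
  rw [ht]
  exact hs x

end Local

variable {I : Type u} [SmallCategory I] {D : I ⥤ Scheme.{u}} {c : Cone D} {F : c.pt.Modules}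

/-- Compatibility passes to smaller affine opens. -/
theorem Compat.restrict {i : I} {W WV V : (D.obj i).Opens} {G₁ G₂ : (D.obj i).Modules} {hW : WV ≤ W}
    {hV : WV ≤ V} {f₁ : G₁ ⟶ (Loc W).obj (Pi c F i)} {f₂ : G₂ ⟶ (Loc V).obj (Pi c F i)}
    {θ : G₁ ⟶ (Loc WV).obj G₂} (hG₁ : Coh.IsQCoh G₁) {A A' : (D.obj i).Opens}
    (h : Compat hW hV f₁ f₂ θ A) (hA : IsAffineOpen A) (hAWV : A ≤ WV) (hA' : IsAffineOpen A') (hle : A' ≤ A) :
    Compat hW hV f₁ f₂ θ A' := fun hA'WV x => by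
  refine (isBC_res hG₁ hA hA' hle).ext (ψ := ((c.π.app i).app A').hom)
    (g₁ := fun t => secF f₂ (hA'WV.trans hV) (evIn WV G₂ hA'WV (θ.app A' t)))
    (g₂ := secF f₁ (hA'WV.trans hW)) (fun x y => by rw [map_add, evIn_add, secF_add]) (secF_add _ _)
    (fun s x => by rw [Scheme.Modules.Hom.app_smul, evIn_smul, secF_smul]) (secF_smul _ _) (fun s => ?_) x
  show secF f₂ ((hle.trans hAWV).trans hV) (evIn WV G₂ (hle.trans hAWV) (θ.app A' (res G₁ hle s))) =
    secF f₁ ((hle.trans hAWV).trans hW) (res G₁ hle s)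
  rw [app_res, evIn_res WV G₂ hAWV hle, secF_res f₂ (hAWV.trans hV) hle, secF_res f₁ (hAWV.trans hW) hle,
    h hAWV s]

variable (c) in
/-- A map between models moved to a later stage. -/
def raiseHom {i k : I} (m : k ⟶ i) {WV : (D.obj i).Opens} {G₁ G₂ : (D.obj i).Modules}
    (θ : G₁ ⟶ (Loc WV).obj G₂) :
    (Scheme.Modules.pullback (D.map m)).obj G₁ ⟶
      (Loc (D.map m ⁻¹ᵁ WV)).obj ((Scheme.Modules.pullback (D.map m)).obj G₂) :=
  raise (D.map m) θ (unit G₂ (Over.mk (D.map m)))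

theorem evIn_raiseHom {i k : I} (m : k ⟶ i) {WV : (D.obj i).Opens} {G₁ G₂ : (D.obj i).Modules}
    (θ : G₁ ⟶ (Loc WV).obj G₂) {A : (D.obj i).Opens} (hA : A ≤ WV) (s : Γ(G₁, A)) :
    evIn (D.map m ⁻¹ᵁ WV) _ ((D.map m).preimage_mono hA)
        ((raiseHom m θ).app (D.map m ⁻¹ᵁ A) (unitSec G₁ (Over.mk (D.map m)) A s)) =
      unitSec G₂ (Over.mk (D.map m)) A (evIn WV G₂ hA (θ.app A s)) :=
  evIn_raise (D.map m) θ (unit G₂ (Over.mk (D.map m))) hA s

theorem Compat.raise {i k : I} (m : k ⟶ i) [IsAffineHom (D.map m)] {W WV V : (D.obj i).Opens}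
    {G₁ G₂ : (D.obj i).Modules} {hW : WV ≤ W} {hV : WV ≤ V} {f₁ : G₁ ⟶ (Loc W).obj (Pi c F i)}
    {f₂ : G₂ ⟶ (Loc V).obj (Pi c F i)} {θ : G₁ ⟶ (Loc WV).obj G₂} (hG₁ : Coh.IsQCoh G₁)
    {A : (D.obj i).Opens} (h : Compat hW hV f₁ f₂ θ A) (hA : IsAffineOpen A) (hAWV : A ≤ WV) :
    Compat ((D.map m).preimage_mono hW) ((D.map m).preimage_mono hV) (raiseF c m f₁) (raiseF c m f₂)
      (raiseHom m θ) (D.map m ⁻¹ᵁ A) := fun hA' x => by
  let p := D.map m
  haveI : IsAffineHom (Over.mk p).hom := inferInstanceAs (IsAffineHom (D.map m))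
  refine (isBC_unitSec hG₁ (Over.mk p) hA).ext (ψ := ((c.π.app k).app (p ⁻¹ᵁ A)).hom)
    (g₁ := fun t => secF (raiseF c m f₂) (hA'.trans (p.preimage_mono hV))
      (evIn (p ⁻¹ᵁ WV) _ hA' ((raiseHom m θ).app (p ⁻¹ᵁ A) t)))
    (g₂ := secF (raiseF c m f₁) (hA'.trans (p.preimage_mono hW)))
    (fun x y => by rw [map_add, evIn_add, secF_add]) (secF_add _ _)
    (fun s x => by rw [Scheme.Modules.Hom.app_smul, evIn_smul, secF_smul]; rfl) (secF_smul _ _) (fun s => ?_) x
  show secF (raiseF c m f₂) (p.preimage_mono (hAWV.trans hV)) (evIn (p ⁻¹ᵁ WV) _ (p.preimage_mono hAWV)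
      ((raiseHom m θ).app (p ⁻¹ᵁ A) (unitSec G₁ (Over.mk p) A s))) =
    secF (raiseF c m f₁) (p.preimage_mono (hAWV.trans hW)) (unitSec G₁ (Over.mk p) A s)
  rw [evIn_raiseHom m θ hAWV s, secF_raiseF m f₁ (hAWV.trans hW) s, secF_raiseF m f₂ (hAWV.trans hV),
    h hAWV s]

variable [IsCofiltered I] (hc : IsLimit c)

include hc in
/-- A compatible map becomes bijective on finitely many affines at a stage. -/
theorem exists_bijective_stage [∀ {a b : I} (f : a ⟶ b), IsAffineHom (D.map f)] {i : I}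
    (hF : Coh.IsQCoh F) {W WV V : (D.obj i).Opens} {hW : WV ≤ W} {hV : WV ≤ V}
    {G₁ G₂ : (D.obj i).Modules} (hG₁ : Coh.IsQCoh G₁) (hG₂ : Coh.IsQCoh G₂)
    {f₁ : G₁ ⟶ (Loc W).obj (Pi c F i)} {f₂ : G₂ ⟶ (Loc V).obj (Pi c F i)} (hf₂ : Good c f₂ V)
    {θ : G₁ ⟶ (Loc WV).obj G₂} {κ : Type u} [Finite κ] (U : κ → (D.obj i).Opens) (hU : ∀ a, U a ≤ WV)
    (hf₁ : ∀ a, Good c f₁ (U a)) (hθ : ∀ a, Compat hW hV f₁ f₂ θ (U a)) :
    ∃ (k : I) (m : k ⟶ i), ∀ a, Function.Bijective fun x =>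
      evIn (D.map m ⁻¹ᵁ WV) _ ((D.map m).preimage_mono (hU a)) ((raiseHom m θ).app (D.map m ⁻¹ᵁ U a) x) := by
  classical
  haveI := Fintype.ofFinite κ
  haveI := isAffineHom_π_app D c hc i
  obtain ⟨α, _, _, _, Fn, _⟩ := IsFiltered.exists_directed (Over i)ᵒᵖ
  letI : ∀ (O : (D.obj i).Opens) (v : Over (D.obj i)), Algebra Γ(D.obj i, O) Γ(v.left, v.hom ⁻¹ᵁ O) :=
    fun O => sectAlg O
  let θA : ∀ a, Γ(G₁, U a) →ₗ[Γ(D.obj i, U a)] Γ(G₂, U a) := fun a =>
    { toFun := fun x => evIn WV G₂ (hU a) (θ.app (U a) x)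
      map_add' := fun x y => by rw [map_add, evIn_add]
      map_smul' := fun r x => by rw [Scheme.Modules.Hom.app_smul, evIn_smul]; rfl }
  have hst : ∀ a, ∃ l : α, Function.Bijective
      ((θA a).lTensor Γ((stageObj (D := D) Fn l).left, (stageObj (D := D) Fn l).hom ⁻¹ᵁ U a)) := fun a => by
    obtain ⟨_, hUaff, hfp₁, hbc₁⟩ := hf₁ a
    obtain ⟨_, _, hfp₂, hbc₂⟩ := hf₂.restrict hG₂ hF hUaff ((hU a).trans hV)
    haveI := hfp₁
    haveI := hfp₂
    refine (isColim_stages (c := c) hc Fn hUaff).exists_bijective (θA a) ?_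
    obtain ⟨e₁, he₁⟩ := hbc₁.exists_equiv
    obtain ⟨e₂, he₂⟩ := hbc₂.exists_equiv
    have hcomm : ∀ z : Γ((limOver D c i).left, (limOver D c i).hom ⁻¹ᵁ U a) ⊗[Γ(D.obj i, U a)] Γ(G₁, U a),
        e₂ ((θA a).lTensor Γ((limOver D c i).left, (limOver D c i).hom ⁻¹ᵁ U a) z) = e₁ z := fun z => by
      induction z using TensorProduct.induction_on with
      | zero =>
        refine (congrArg e₂ (map_zero _)).trans ?_
        exact (map_zero e₂).trans (map_zero e₁).symm
      | add x y hx hy =>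
        refine (congrArg e₂ (map_add _ x y)).trans ((map_add e₂ _ _).trans ?_)
        exact (congrArg₂ (· + ·) hx hy).trans (map_add e₁ x y).symm
      | tmul r x =>
        refine (he₂ r (θA a x)).trans ?_
        refine Eq.trans ?_ (he₁ r x).symm
        exact congrArg (fun t : Γ(F, c.π.app i ⁻¹ᵁ U a) => (show Γ(c.pt, c.π.app i ⁻¹ᵁ U a) from r) • t) (hθ a (hU a) x)
    refine ⟨fun x y h => e₁.injective ((hcomm x).symm.trans ((congrArg e₂ h).trans (hcomm y))), fun y =>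
      ⟨e₁.symm (e₂ y), e₂.injective ((hcomm _).trans (e₁.apply_symm_apply _))⟩⟩
  choose l hl using hst
  obtain ⟨t, ht⟩ := Finset.exists_le (Finset.univ.image l)
  let o := (Fn.obj t).unop
  refine ⟨o.left, o.hom, fun a => ?_⟩
  let w := stageObj (D := D) Fn t
  haveI : IsAffineHom w.hom := inferInstanceAs (IsAffineHom (D.map o.hom))
  obtain ⟨_, hUaff, -, -⟩ := hf₁ a
  have hbij : Function.Bijective ((θA a).lTensor Γ(w.left, w.hom ⁻¹ᵁ U a)) :=
    bijective_lTensor_of_algHom (overRingMap (U a) (stageMap (D := D) Fn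
      (ht _ (Finset.mem_image_of_mem l (Finset.mem_univ a))))) (θA a) (hl a)
  obtain ⟨d₁, hd₁⟩ := exists_tensorEquiv hUaff hG₁ w
  obtain ⟨d₂, hd₂⟩ := exists_tensorEquiv hUaff hG₂ w
  let Φ : Γ((Scheme.Modules.pullback (D.map o.hom)).obj G₁, D.map o.hom ⁻¹ᵁ U a) →
      Γ((Scheme.Modules.pullback (D.map o.hom)).obj G₂, D.map o.hom ⁻¹ᵁ U a) := fun x =>
    evIn (D.map o.hom ⁻¹ᵁ WV) _ ((D.map o.hom).preimage_mono (hU a))
      ((raiseHom o.hom θ).app (D.map o.hom ⁻¹ᵁ U a) x)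
  have hΦ : ∀ z, Φ (d₁ z) = d₂ ((θA a).lTensor _ z) := fun z => by
    induction z using TensorProduct.induction_on with
    | zero =>
      refine Eq.trans ?_ ((congrArg d₂ (map_zero _)).trans (map_zero d₂)).symm
      show evIn _ _ _ ((raiseHom o.hom θ).app _ (d₁ 0)) = _
      rw [map_zero d₁]
      erw [map_zero]
      exact (congrArg (res _ _) (ev_zero _ _ _)).trans (map_zero _)
    | add x y hx hy =>
      refine Eq.trans ?_ ((congrArg d₂ (map_add _ x y)).trans ((map_add d₂ _ _).trans (by rw [← hx, ← hy]))).symm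
      show evIn _ _ _ ((raiseHom o.hom θ).app _ (d₁ (x + y))) = _
      rw [map_add d₁]
      erw [map_add, evIn_add]
      rfl
    | tmul r x =>
      refine Eq.trans ?_ (hd₂ r (θA a x)).symm
      refine (congrArg Φ (hd₁ r x)).trans ?_
      show evIn _ _ _ ((raiseHom o.hom θ).app _ _) = _
      erw [Scheme.Modules.Hom.app_smul, evIn_smul]
      exact congrArg (fun t : Γ((Scheme.Modules.pullback (D.map o.hom)).obj G₂, D.map o.hom ⁻¹ᵁ U a) =>
        (show Γ(D.obj o.left, D.map o.hom ⁻¹ᵁ U a) from r) • t) (evIn_raiseHom o.hom θ (hU a) x)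
  show Function.Bijective Φ
  rw [show Φ = d₂ ∘ (θA a).lTensor _ ∘ d₁.symm from funext fun y => by
    rw [Function.comp_apply, Function.comp_apply, ← hΦ, d₁.apply_symm_apply]]
  exact d₂.bijective.comp (hbij.comp d₁.symm.bijective)

end Groth.Agent.ModDescent24
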