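import Groth.Agent.ModDescent24.BijStage
import Groth.Agent.RPSM.QCohCat
import Groth.Agent.QCoh.ExtendFT

/-!
# Gluing models
-/

set_option autoImplicit false
set_option linter.style.haveILetI false
set_option backward.isDefEq.respectTransparency false
set_option backward.isDefEq.respectTransparency.types false
set_option maxHeartbeats 1000000

universe u

open CategoryTheory CategoryTheory.Limits AlgebraicGeometry TopologicalSpace Opposite

noncomputable section

namespace Groth.Agent.ModDescent24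

open ZClosLib (res res_res res_self app_res res_eq_of_cover)

theorem isQCoh_biprod {X : Scheme.{u}} {A B : X.Modules} (hA : Coh.IsQCoh A) (hB : Coh.IsQCoh B) :
    Coh.IsQCoh (A ⊞ B) :=
  (QCoh.isQCoh_iff_iso (biprod.isoProd A B)).2 ((QCohCat.isQCoh X).prop_prod A B hA hB)

theorem isQCoh_loc {T : Scheme.{u}} [QuasiSeparatedSpace T] {W : T.Opens} (hW : IsCompact (W : Set T))
    {M : T.Modules} (hM : Coh.IsQCoh M) : Coh.IsQCoh ((Loc W).obj M) :=
  haveI := QCoh.quasiCompact_ι_of_compact W hW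
  QCoh.isQCoh_pushforward W.ι (QCoh.isQCoh_restrict W.ι hM)

/-- Sections of a kernel. -/
theorem exists_kernel_app {X : Scheme.{u}} {A B : X.Modules} (d : A ⟶ B) {U : X.Opens} (y : Γ(A, U))
    (h : d.app U y = 0) : ∃ z, (kernel.ι d).app U z = y := by
  let Φ := Scheme.Modules.toPresheaf X ⋙ (evaluation (Opens X)ᵒᵖ Ab.{u}).obj (op U)
  haveI : PreservesLimitsOfSize.{0, 0} (Scheme.Modules.toPresheaf X) := preservesSmallestLimits_of_preservesLimits _
  haveI : PreservesLimitsOfShape WalkingParallelPair ((evaluation (Opens X)ᵒᵖ Ab.{u}).obj (op U)) := inferInstance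
  haveI : PreservesLimitsOfShape WalkingParallelPair Φ :=
    inferInstanceAs (PreservesLimitsOfShape WalkingParallelPair
      (Scheme.Modules.toPresheaf X ⋙ (evaluation (Opens X)ᵒᵖ Ab.{u}).obj (op U)))
  haveI : Φ.PreservesZeroMorphisms := ⟨fun _ _ => rfl⟩
  have hk : IsLimit (KernelFork.ofι (Φ.map (kernel.ι d))
      (by rw [← Φ.map_comp, kernel.condition, Functor.map_zero])) :=
    isLimitForkMapOfIsLimit' Φ (kernel.condition d) (kernelIsKernel d)
  let S := ShortComplex.mk (Φ.map (kernel.ι d)) (Φ.map d)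
    (by rw [← Φ.map_comp, kernel.condition, Functor.map_zero])
  exact (ShortComplex.ab_exact_iff S).1 (S.exact_of_f_is_kernel hk) y h

/-- A compact open is covered by finitely many affines inside the members of a cover of it. -/
theorem exists_affine_refinement {T : Scheme.{u}} {O : T.Opens} (hO : IsCompact (O : Set T)) {κ : Type*}
    (U : κ → T.Opens) (hcov : ∀ x ∈ O, ∃ a, x ∈ U a) :
    ∃ (κ' : Type u) (_ : Finite κ') (A : κ' → T.Opens), (∀ b, IsAffineOpen (A b) ∧ A b ≤ O ∧ ∃ a, A b ≤ U a) ∧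
      ∀ x ∈ O, ∃ b, x ∈ A b := by
  classical
  have h : ∀ x : O, ∃ A : T.Opens, IsAffineOpen A ∧ x.1 ∈ A ∧ A ≤ O ∧ ∃ a, A ≤ U a := fun x => by
    obtain ⟨a, ha⟩ := hcov x.1 x.2
    obtain ⟨A, hA, hxA, hle⟩ := exists_isAffineOpen_mem_and_subset (x := x.1) (U := O ⊓ U a) ⟨x.2, ha⟩
    exact ⟨A, hA, hxA, fun y hy => (hle hy).1, a, fun y hy => (hle hy).2⟩
  choose A hA hxA hAO hAU using h
  obtain ⟨s, hs⟩ := hO.elim_finite_subcover (fun x : O => (A x : Set T)) (fun x => (A x).2)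
    fun x hx => Set.mem_iUnion.2 ⟨⟨x, hx⟩, hxA ⟨x, hx⟩⟩
  exact ⟨s, inferInstance, fun x => A x.1, fun x => ⟨hA x.1, hAO x.1, hAU x.1⟩, fun x hx => by
    obtain ⟨b, hb, hxb⟩ := Set.mem_iUnion₂.1 (hs hx)
    exact ⟨⟨b, hb⟩, hxb⟩⟩

section Ext

variable {T : Scheme.{u}} {W W' : T.Opens} (h : W' ≤ W) {M N : T.Modules} (θ : M ⟶ (Loc W').obj N)

/-- The extension of a map into a localisation to the localisation of the source. -/
def locExtend : (Loc W).obj M ⟶ (Loc W').obj N := (exists_locExtend h θ).choose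

theorem ev_locExtend (O : T.Opens) (s : Γ((Loc W).obj M, O)) :
    ev W' N O ((locExtend h θ).app O s) =
      res N (le_inf inf_le_left (inf_le_inf_right O h)) (ev W' N (W ⊓ O) (θ.app (W ⊓ O) (ev W M O s))) :=
  (exists_locExtend h θ).choose_spec O s

theorem evIn_locExtend {O : T.Opens} (hO : O ≤ W') (s : Γ((Loc W).obj M, O)) :
    evIn W' N hO ((locExtend h θ).app O s) = evIn W' N hO (θ.app O (evIn W M (hO.trans h) s)) := by
  show res N _ (ev W' N O ((locExtend h θ).app O s)) = evIn W' N hO (θ.app O (res M _ (ev W M O s)))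
  rw [ev_locExtend, app_res θ]
  unfold evIn
  rw [ev_res, res_res]

end Ext

variable {I : Type u} [SmallCategory I] {D : I ⥤ Scheme.{u}} {c : Cone D} {F : c.pt.Modules}

/-- Two models with a compatible isomorphism on the overlap glue. -/
theorem exists_glued {i : I} [QuasiSeparatedSpace (D.obj i)] {W V : (D.obj i).Opens}
    (hWc : IsCompact (W : Set (D.obj i))) (hVc : IsCompact (V : Set (D.obj i))) {G₁ G₂ : (D.obj i).Modules}
    (hG₁ : Coh.IsQCoh G₁) (hG₂ : Coh.IsQCoh G₂) (f₁ : G₁ ⟶ (Loc W).obj (Pi c F i))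
    (f₂ : G₂ ⟶ (Loc V).obj (Pi c F i)) (θ : G₁ ⟶ (Loc (W ⊓ V)).obj G₂)
    (hbij : ∀ {O : (D.obj i).Opens} (hO : O ≤ W ⊓ V),
      Function.Bijective fun s => evIn (W ⊓ V) G₂ hO (θ.app O s))
    (hcomp : ∀ {O : (D.obj i).Opens}, O ≤ W ⊓ V → ∀ x ∈ O, ∃ A, x ∈ A ∧ A ≤ O ∧
      Compat inf_le_left inf_le_right f₁ f₂ θ A) :
    ∃ (G : (D.obj i).Modules) (f : G ⟶ (Loc (W ⊔ V)).obj (Pi c F i)), Coh.IsQCoh G ∧
      (∀ A, Good c f₁ A → Good c f A) ∧ ∀ A, Good c f₂ A → Good c f A := by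
  let WV := W ⊓ V
  let B := (Loc WV).obj G₂
  let θe : (Loc W).obj G₁ ⟶ B := locExtend (inf_le_left : WV ≤ W) θ
  let ρ : (Loc V).obj G₂ ⟶ B := locRes (inf_le_right : WV ≤ V) G₂
  let d : (Loc W).obj G₁ ⊞ (Loc V).obj G₂ ⟶ B := biprod.fst ≫ θe - biprod.snd ≫ ρ
  let K := kernel d
  have hK : Coh.IsQCoh K := QCoh.isQCoh_kernel
    (isQCoh_biprod (isQCoh_loc hWc hG₁) (isQCoh_loc hVc hG₂))
    (isQCoh_loc (QuasiSeparatedSpace.inter_isCompact _ _ W.2 hWc V.2 hVc) hG₂) d
  let a₁ : K ⟶ (Loc W).obj G₁ := kernel.ι d ≫ biprod.fst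
  let a₂ : K ⟶ (Loc V).obj G₂ := kernel.ι d ≫ biprod.snd
  have ha : a₁ ≫ θe = a₂ ≫ ρ := by
    have h0 := kernel.condition d
    have h1 : kernel.ι d ≫ biprod.fst ≫ θe - kernel.ι d ≫ biprod.snd ≫ ρ = 0 :=
      (Preadditive.comp_sub _ _ _).symm.trans h0
    show (kernel.ι d ≫ biprod.fst) ≫ θe = (kernel.ι d ≫ biprod.snd) ≫ ρ
    rw [Category.assoc, Category.assoc]
    exact sub_eq_zero.1 h1
  have hcond : ∀ {O : (D.obj i).Opens} (hO : O ≤ WV) (z : Γ(K, O)),
      evIn WV G₂ hO (θ.app O (evIn W G₁ (hO.trans inf_le_left) (a₁.app O z))) =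
        evIn V G₂ (hO.trans inf_le_right) (a₂.app O z) := fun {O} hO z => by
    rw [← evIn_locExtend (inf_le_left : WV ≤ W) θ hO, ← evIn_locRes (inf_le_right : WV ≤ V) G₂ hO]
    exact congrArg (evIn WV G₂ hO) (congrArg (fun t => t.app O z) ha)
  -- the map to `F`
  obtain ⟨f, hf₁', hf₂'⟩ := exists_glueLoc (a₁ ≫ locExtend le_rfl f₁) (a₂ ≫ locExtend le_rfl f₂) fun O z => by
    choose A hxA hA hAc using fun x : ↥(W ⊓ V ⊓ O : (D.obj i).Opens) =>
      hcomp (inf_le_left : W ⊓ V ⊓ O ≤ W ⊓ V) x.1 x.2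
    refine res_eq_of_cover (Pi c F i) A hA (fun x hx => ⟨⟨x, hx⟩, hxA ⟨x, hx⟩⟩) _ _ fun x => ?_
    have hAO : A x ≤ O := (hA x).trans inf_le_right
    have hAWV : A x ≤ WV := (hA x).trans inf_le_left
    let z' := res K hAO z
    have hl : ∀ {W₀ : (D.obj i).Opens} (φ : K ⟶ (Loc W₀).obj (Pi c F i)) (h1 : A x ≤ W₀) (h2 : A x ≤ W₀ ⊓ O),
        res (Pi c F i) h2 (ev W₀ (Pi c F i) O (φ.app O z)) = evIn W₀ (Pi c F i) h1 (φ.app (A x) z') := by
      intro W₀ φ h1 h2
      show _ = res (Pi c F i) _ (ev W₀ (Pi c F i) (A x) (φ.app (A x) (res K hAO z)))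
      rw [app_res, ev_res, res_res]
    rw [res_res, res_res, hl _ (hAWV.trans inf_le_left), hl _ (hAWV.trans inf_le_right)]
    show evIn W _ _ ((locExtend le_rfl f₁).app _ (a₁.app _ z')) =
      evIn V _ _ ((locExtend le_rfl f₂).app _ (a₂.app _ z'))
    rw [evIn_locExtend, evIn_locExtend, ← hcond hAWV z']
    exact (hAc x hAWV (evIn W G₁ (hAWV.trans inf_le_left) (a₁.app (A x) z'))).symm
  have hmk : ∀ {O : (D.obj i).Opens} (s : Γ((Loc W).obj G₁, O)) (t : Γ((Loc V).obj G₂, O)),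
      θe.app O s = ρ.app O t → ∃ z, a₁.app O z = s ∧ a₂.app O z = t := fun {O} s t h => by
    let y := (biprod.inl : (Loc W).obj G₁ ⟶ (Loc W).obj G₁ ⊞ (Loc V).obj G₂).app O s +
      (biprod.inr : (Loc V).obj G₂ ⟶ (Loc W).obj G₁ ⊞ (Loc V).obj G₂).app O t
    have h1 : (biprod.fst : (Loc W).obj G₁ ⊞ (Loc V).obj G₂ ⟶ _).app O y = s := by
      show (biprod.fst : (Loc W).obj G₁ ⊞ (Loc V).obj G₂ ⟶ _).app O (_ + _) = s
      rw [map_add, ← ConcreteCategory.comp_apply, ← ConcreteCategory.comp_apply, ← Scheme.Modules.Hom.comp_app,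
        ← Scheme.Modules.Hom.comp_app, biprod.inl_fst, biprod.inr_fst]
      simp
    have h2 : (biprod.snd : (Loc W).obj G₁ ⊞ (Loc V).obj G₂ ⟶ _).app O y = t := by
      show (biprod.snd : (Loc W).obj G₁ ⊞ (Loc V).obj G₂ ⟶ _).app O (_ + _) = t
      rw [map_add, ← ConcreteCategory.comp_apply, ← ConcreteCategory.comp_apply, ← Scheme.Modules.Hom.comp_app,
        ← Scheme.Modules.Hom.comp_app, biprod.inl_snd, biprod.inr_snd]
      simp
    obtain ⟨z, hz⟩ := exists_kernel_app d y (by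
      show (biprod.fst ≫ θe - biprod.snd ≫ ρ).app O y = 0
      rw [Scheme.Modules.Hom.sub_app]
      show θe.app O ((biprod.fst : (Loc W).obj G₁ ⊞ (Loc V).obj G₂ ⟶ _).app O y) -
        ρ.app O ((biprod.snd : (Loc W).obj G₁ ⊞ (Loc V).obj G₂ ⟶ _).app O y) = 0
      rw [h1, h2, h, sub_self])
    exact ⟨z, (congrArg _ hz).trans h1, (congrArg _ hz).trans h2⟩
  have hinj : ∀ {O : (D.obj i).Opens} (z z' : Γ(K, O)), a₁.app O z = a₁.app O z' → a₂.app O z = a₂.app O z' →
      z = z' := fun {O} z z' h h' => by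
    refine ZClosLib.app_injective_of_mono (kernel.ι d) O ?_
    have htot : ∀ y : Γ((Loc W).obj G₁ ⊞ (Loc V).obj G₂, O), y =
        (biprod.inl : (Loc W).obj G₁ ⟶ (Loc W).obj G₁ ⊞ (Loc V).obj G₂).app O
          ((biprod.fst : (Loc W).obj G₁ ⊞ (Loc V).obj G₂ ⟶ _).app O y) +
        (biprod.inr : (Loc V).obj G₂ ⟶ (Loc W).obj G₁ ⊞ (Loc V).obj G₂).app O
          ((biprod.snd : (Loc W).obj G₁ ⊞ (Loc V).obj G₂ ⟶ _).app O y) := fun y => by
      have hb := congrArg (fun t : (Loc W).obj G₁ ⊞ (Loc V).obj G₂ ⟶ (Loc W).obj G₁ ⊞ (Loc V).obj G₂ => t.app O y)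
        (biprod.total (X := (Loc W).obj G₁) (Y := (Loc V).obj G₂)).symm
      exact hb
    rw [htot ((kernel.ι d).app O z), htot ((kernel.ι d).app O z')]
    exact congrArg₂ (· + ·) (congrArg _ h) (congrArg _ h')
  have hjW : ∀ {A : (D.obj i).Opens} (hA : A ≤ W),
      Function.Bijective fun z => evIn W G₁ hA (a₁.app A z) := fun {A} hA => by
    have hVA : V ⊓ A ≤ WV := le_inf (inf_le_right.trans hA) inf_le_left
    refine ⟨fun z z' e => ?_, fun s => ?_⟩
    · refine hinj z z' ((evIn_bijective W G₁ hA).1 e) (ev_injective V G₂ A ?_)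
      have h : ∀ w, evIn V G₂ (hVA.trans inf_le_right) (a₂.app (V ⊓ A) (res K inf_le_right w)) =
          ev V G₂ A (a₂.app A w) := fun w => by
        unfold evIn
        rw [app_res, ev_res, res_res, res_self]
      rw [← h z, ← h z', ← hcond hVA, ← hcond hVA]
      refine congrArg (fun t => evIn WV G₂ hVA (θ.app (V ⊓ A) t)) ?_
      rw [app_res, app_res, evIn_res W G₁ hA, evIn_res W G₁ hA]
      exact congrArg (res G₁ inf_le_right) e
    · obtain ⟨s', rfl⟩ := (evIn_bijective W G₁ hA).2 s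
      obtain ⟨z, hz, -⟩ := hmk s' (unev V G₂ A (evIn WV G₂ hVA (θ.app (V ⊓ A) (res G₁ inf_le_right
          (evIn W G₁ hA s'))))) (ev_injective WV G₂ A (by
        show ev WV G₂ A ((locExtend (inf_le_left : WV ≤ W) θ).app A s') = ev WV G₂ A ((locRes _ G₂).app A _)
        rw [ev_locExtend, ev_locRes, ev_unev]
        unfold evIn
        rw [res_res, app_res, ev_res, app_res θ, ev_res, res_res, res_res]))
      exact ⟨z, congrArg (evIn W G₁ hA) hz⟩
  have hjV : ∀ {A : (D.obj i).Opens} (hA : A ≤ V),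
      Function.Bijective fun z => evIn V G₂ hA (a₂.app A z) := fun {A} hA => by
    have hWA : W ⊓ A ≤ WV := le_inf inf_le_left (inf_le_right.trans hA)
    refine ⟨fun z z' e => ?_, fun t => ?_⟩
    · refine hinj z z' (ev_injective W G₁ A ((hbij hWA).1 ?_)) ((evIn_bijective V G₂ hA).1 e)
      have h : ∀ w, evIn W G₁ (hWA.trans inf_le_left) (a₁.app (W ⊓ A) (res K inf_le_right w)) =
          ev W G₁ A (a₁.app A w) := fun w => by
        unfold evIn
        rw [app_res, ev_res, res_res, res_self]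
      show evIn WV G₂ hWA (θ.app (W ⊓ A) _) = evIn WV G₂ hWA (θ.app (W ⊓ A) _)
      rw [← h z, ← h z', hcond hWA, hcond hWA, app_res, app_res, evIn_res V G₂ hA, evIn_res V G₂ hA]
      exact congrArg (res G₂ inf_le_right) e
    · obtain ⟨t', rfl⟩ := (evIn_bijective V G₂ hA).2 t
      obtain ⟨s, hs⟩ := (hbij hWA).2 (res G₂ inf_le_right (evIn V G₂ hA t'))
      obtain ⟨z, -, hz⟩ := hmk (unev W G₁ A s) t' (ev_injective WV G₂ A (by
        show ev WV G₂ A ((locExtend (inf_le_left : WV ≤ W) θ).app A (unev W G₁ A s)) =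
          ev WV G₂ A ((locRes _ G₂).app A _)
        rw [ev_locExtend, ev_locRes, ev_unev]
        have hs' : evIn WV G₂ hWA (θ.app (W ⊓ A) s) = res G₂ inf_le_right (evIn V G₂ hA t') := hs
        have := congrArg (res G₂ (le_inf (inf_le_left.trans inf_le_left) inf_le_right :
          WV ⊓ A ≤ W ⊓ A)) hs'
        unfold evIn at this
        rw [res_res, res_res, res_res] at this
        exact this))
      exact ⟨z, congrArg (evIn V G₂ hA) hz⟩
  refine ⟨K, f, hK, fun A hgood => ?_, fun A hgood => ?_⟩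
  · obtain ⟨hA, hAaff, hfp, hbc⟩ := hgood
    haveI := hfp
    let j : Γ(K, A) →ₗ[Γ(D.obj i, A)] Γ(G₁, A) :=
      { toFun := fun z => evIn W G₁ hA (a₁.app A z)
        map_add' := fun x y => by rw [map_add, evIn_add]
        map_smul' := fun r x => by rw [Scheme.Modules.Hom.app_smul, evIn_smul]; rfl }
    let e := LinearEquiv.ofBijective j (hjW hA)
    refine ⟨hA.trans le_sup_left, hAaff, Module.FinitePresentation.of_equiv e.symm,
      ((IsBC.of_bijective (f := j) (map_add j) (map_smul j) (hjW hA)).comp hbc).congr (RingHom.comp_id _) fun z => ?_⟩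
    show secF f₁ hA (evIn W G₁ hA (a₁.app A z)) = evIn (W ⊔ V) (Pi c F i) (hA.trans le_sup_left) (f.app A z)
    rw [← evIn_locRes (le_sup_left : W ≤ W ⊔ V) (Pi c F i) hA (f.app A z)]
    refine Eq.trans ?_ (congrArg (evIn W (Pi c F i) hA) (congrArg (fun t => t.app A z) hf₁')).symm
    exact (evIn_locExtend le_rfl f₁ hA (a₁.app A z)).symm
  · obtain ⟨hA, hAaff, hfp, hbc⟩ := hgood
    haveI := hfp
    let j : Γ(K, A) →ₗ[Γ(D.obj i, A)] Γ(G₂, A) :=
      { toFun := fun z => evIn V G₂ hA (a₂.app A z)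
        map_add' := fun x y => by rw [map_add, evIn_add]
        map_smul' := fun r x => by rw [Scheme.Modules.Hom.app_smul, evIn_smul]; rfl }
    let e := LinearEquiv.ofBijective j (hjV hA)
    refine ⟨hA.trans le_sup_right, hAaff, Module.FinitePresentation.of_equiv e.symm,
      ((IsBC.of_bijective (f := j) (map_add j) (map_smul j) (hjV hA)).comp hbc).congr (RingHom.comp_id _) fun z => ?_⟩
    show secF f₂ hA (evIn V G₂ hA (a₂.app A z)) = evIn (W ⊔ V) (Pi c F i) (hA.trans le_sup_right) (f.app A z)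
    rw [← evIn_locRes (le_sup_right : V ≤ W ⊔ V) (Pi c F i) hA (f.app A z)]
    refine Eq.trans ?_ (congrArg (evIn V (Pi c F i) hA) (congrArg (fun t => t.app A z) hf₂')).symm
    exact (evIn_locExtend le_rfl f₂ hA (a₂.app A z)).symm

end Groth.Agent.ModDescent24
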