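import Groth.Agent.ModDescent24.Affine
import Groth.Agent.ZClosLib.Basic
import Groth.Agent.RPSM.CompactQCoh

/-!
# Maps between models descend to a stage
-/

set_option autoImplicit false
set_option linter.style.haveILetI false
set_option backward.isDefEq.respectTransparency false
set_option backward.isDefEq.respectTransparency.types false
set_option maxHeartbeats 1000000

universe u

open CategoryTheory CategoryTheory.Limits AlgebraicGeometry TopologicalSpace Opposite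

attribute [local instance] Cardinal.fact_isRegular_aleph0

noncomputable section

namespace Groth.Agent.ModDescent24

open ZClosLib (res res_res res_self app_res)

/-- Two semilinear maps out of a base change agreeing on the unit agree. -/
theorem IsBC.ext {R S B M M' N : Type u} [CommRing R] [CommRing S] [CommRing B] [AddCommGroup M] [Module R M]
    [AddCommGroup M'] [Module S M'] [AddCommGroup N] [Module B N] {φ : R →+* S} {u : M → M'} (h : IsBC φ u)
    {ψ : S →+* B} {g₁ g₂ : M' → N} (ha₁ : ∀ x y, g₁ (x + y) = g₁ x + g₁ y)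
    (ha₂ : ∀ x y, g₂ (x + y) = g₂ x + g₂ y) (hs₁ : ∀ s x, g₁ (s • x) = ψ s • g₁ x)
    (hs₂ : ∀ s x, g₂ (s • x) = ψ s • g₂ x) (he : ∀ x, g₁ (u x) = g₂ (u x)) (y : M') : g₁ y = g₂ y := by
  let := φ.toAlgebra
  obtain ⟨e, he'⟩ := h.exists_equiv
  obtain ⟨z, rfl⟩ := e.surjective y
  induction z using TensorProduct.induction_on with
  | zero =>
    rw [map_zero]
    exact ((hs₁ 0 0 ▸ show g₁ 0 = g₁ ((0 : S) • 0) by rw [zero_smul]).trans (by rw [map_zero, zero_smul])).trans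
      ((hs₂ 0 0 ▸ show g₂ 0 = g₂ ((0 : S) • 0) by rw [zero_smul]).trans (by rw [map_zero, zero_smul])).symm
  | add a b ha hb => rw [_root_.map_add e a b, ha₁, ha₂, ha, hb]
  | tmul s x => rw [he', hs₁, hs₂, he]

/-- A linear map between two base changes compatible with the units is bijective. -/
theorem IsBC.bijective_of_comp {R S M N N' : Type u} [CommRing R] [CommRing S] [AddCommGroup M] [Module R M]
    [AddCommGroup N] [Module S N] [AddCommGroup N'] [Module S N'] {φ : R →+* S} {f : M → N} {g : M → N'}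
    (hf : IsBC φ f) (hg : IsBC φ g) (h : N → N') (ha : ∀ x y, h (x + y) = h x + h y)
    (hs : ∀ (s : S) x, h (s • x) = s • h x) (he : ∀ x, h (f x) = g x) : Function.Bijective h := by
  let := φ.toAlgebra
  obtain ⟨e₁, he₁⟩ := hf.exists_equiv
  obtain ⟨e₂, he₂⟩ := hg.exists_equiv
  suffices ∀ z, h (e₁ z) = e₂ z by
    rw [show h = e₂ ∘ e₁.symm from funext fun y => by rw [Function.comp_apply, ← this, e₁.apply_symm_apply]]
    exact e₂.bijective.comp e₁.symm.bijective
  intro z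
  induction z using TensorProduct.induction_on with
  | zero =>
    rw [map_zero, map_zero]
    have h0 := hs 0 0
    rwa [zero_smul, zero_smul] at h0
  | add a b ha' hb => rw [_root_.map_add e₁ a b, _root_.map_add e₂ a b, ha, ha', hb]
  | tmul s x => rw [he₁, he₂, hs, he]

section Loc

variable {T : Scheme.{u}}

theorem evIn_add (W : T.Opens) (M : T.Modules) {O : T.Opens} (h : O ≤ W) (s t : Γ((Loc W).obj M, O)) :
    evIn W M h (s + t) = evIn W M h s + evIn W M h t := by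
  unfold evIn
  rw [ev_add]
  exact map_add _ _ _

theorem evIn_smul (W : T.Opens) (M : T.Modules) {O : T.Opens} (h : O ≤ W) (r : Γ(T, O))
    (s : Γ((Loc W).obj M, O)) : evIn W M h (r • s) = r • evIn W M h s := by
  unfold evIn
  rw [ev_smul, res, QCoh.map_smul']
  congr 1
  exact (QCoh.ringMap_map _ _ r).trans (QCoh.ringMap_id _ r)

theorem evIn_bijective (W : T.Opens) (M : T.Modules) {O : T.Opens} (h : O ≤ W) :
    Function.Bijective (evIn W M h) :=
  (ZClosLib.res_bijective_of_eq M (le_inf h le_rfl) inf_le_right).comp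
    ⟨ev_injective W M O, fun x => ⟨unev W M O x, ev_unev W M O x⟩⟩

theorem evIn_res (W : T.Opens) (M : T.Modules) {O O' : T.Opens} (h : O ≤ W) (h' : O' ≤ O)
    (s : Γ((Loc W).obj M, O)) :
    evIn W M (h'.trans h) (res ((Loc W).obj M) h' s) = res M h' (evIn W M h s) := by
  unfold evIn
  rw [ev_res, res_res, res_res]

theorem evIn_map (W : T.Opens) {M N : T.Modules} (φ : M ⟶ N) {O : T.Opens} (h : O ≤ W)
    (s : Γ((Loc W).obj M, O)) :
    evIn W N h (((Loc W).map φ).app O s) = φ.app O (evIn W M h s) := by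
  unfold evIn
  rw [ev_map, app_res]

theorem evIn_locRes {W W' : T.Opens} (hW : W' ≤ W) (M : T.Modules) {O : T.Opens} (h : O ≤ W')
    (s : Γ((Loc W).obj M, O)) :
    evIn W' M h ((locRes hW M).app O s) = evIn W M (h.trans hW) s := by
  unfold evIn
  rw [ev_locRes, res_res]

theorem evIn_unit (W : T.Opens) (M : T.Modules) {O : T.Opens} (h : O ≤ W) (s : Γ(M, O)) :
    evIn W M h (((Scheme.Modules.restrictAdjunction W.ι).unit.app M).app O s) = s := by
  show res M _ (res M _ (res M (W.ι.image_preimage_le O) s)) = s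
  rw [res_res, res_res, res_self]

theorem evIn_locPush {T' : Scheme.{u}} (p : T' ⟶ T) (W : T.Opens) (M : T'.Modules) {O : T.Opens} (h : O ≤ W)
    (s : Γ((Loc W).obj ((Scheme.Modules.pushforward p).obj M), O)) :
    evIn (p ⁻¹ᵁ W) M (p.preimage_mono h)
        (show Γ((Loc (p ⁻¹ᵁ W)).obj M, p ⁻¹ᵁ O) from (locPush p W M).app O s) =
      (show Γ(M, p ⁻¹ᵁ O) from evIn W ((Scheme.Modules.pushforward p).obj M) h s) := by
  unfold evIn
  erw [(exists_locPush p W M).choose_spec O s]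
  rfl

/-- The values of a raised map on pulled back sections. -/
theorem evIn_raise {T' : Scheme.{u}} (p : T' ⟶ T) {W : T.Opens} {G N : T.Modules} {N' : T'.Modules}
    (f : G ⟶ (Loc W).obj N) (v : N ⟶ (Scheme.Modules.pushforward p).obj N') {O : T.Opens} (h : O ≤ W)
    (s : Γ(G, O)) :
    evIn (p ⁻¹ᵁ W) N' (p.preimage_mono h) ((raise p f v).app (p ⁻¹ᵁ O) (unitSec G (Over.mk p) O s)) =
      (show Γ(N', p ⁻¹ᵁ O) from v.app O (evIn W N h (f.app O s))) := by
  refine (congrArg (res N' (le_inf (p.preimage_mono h) le_rfl)) (ev_raise_unit p f v O s)).trans ?_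
  exact (app_res v (le_inf h le_rfl) (ev W N O (f.app O s))).symm

end Loc

variable {I : Type u} [SmallCategory I] [IsCofiltered I] {D : I ⥤ Scheme.{u}} {c : Cone D}
  (hc : IsLimit c) {F : c.pt.Modules}

/-- Adjuncts: from extension by zero to a map into a localisation. -/
theorem exists_toLoc_of_lsh {T : Scheme.{u}} (W : T.Opens) {G P Q R : T.Modules} (β : Q ⟶ R)
    [IsIso ((Scheme.Modules.restrictFunctor W.ι).map β)] (μ : G ⟶ R) (ι' : P ⟶ Q)
    (ζ : (KFlatLib.lsh W.ι).obj (G.restrict W.ι) ⟶ P)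
    (h : ζ ≫ ι' = ((KFlatLib.lshAdj W.ι).homEquiv _ _).symm
      ((Scheme.Modules.restrictFunctor W.ι).map μ ≫ inv ((Scheme.Modules.restrictFunctor W.ι).map β))) :
    ∃ θ : G ⟶ (Loc W).obj P, ∀ (A : T.Opens) (hA : A ≤ W) (s : Γ(G, A)),
      β.app A (ι'.app A (evIn W P hA (θ.app A s))) = μ.app A s := by
  let r := Scheme.Modules.restrictFunctor W.ι
  let η : r.obj G ⟶ r.obj P := (KFlatLib.lshAdj W.ι).homEquiv _ _ ζ
  have hη : η ≫ r.map (ι' ≫ β) = r.map μ := by
    have h1 : η ≫ r.map ι' = r.map μ ≫ inv (r.map β) := by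
      rw [← Adjunction.homEquiv_naturality_right]
      exact (congrArg _ h).trans (Equiv.apply_symm_apply _ _)
    rw [Functor.map_comp, ← Category.assoc, h1, Category.assoc, IsIso.inv_hom_id, Category.comp_id]
  refine ⟨(Scheme.Modules.restrictAdjunction W.ι).homEquiv _ _ η, fun A hA s => ?_⟩
  have hθ : (Scheme.Modules.restrictAdjunction W.ι).homEquiv _ _ η ≫ (Loc W).map (ι' ≫ β) =
      μ ≫ (Scheme.Modules.restrictAdjunction W.ι).unit.app _ := by
    refine ((Scheme.Modules.restrictAdjunction W.ι).homEquiv_naturality_right η _).symm.trans ?_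
    rw [hη, Adjunction.homEquiv_unit]
    exact ((Scheme.Modules.restrictAdjunction W.ι).unit.naturality μ).symm
  show (ι' ≫ β).app A _ = _
  rw [← evIn_map W (ι' ≫ β) hA]
  refine (congrArg (evIn W _ hA) (congrArg (fun t => t.app A s) hθ)).trans ?_
  exact evIn_unit W _ hA _

omit [IsCofiltered I] in
/-- The module on an open of a stage underlying a model is finitely presented. -/
theorem isFP_restrict_of_good {i : I} [IsAffineHom (c.π.app i)] {W : (D.obj i).Opens} {G : (D.obj i).Modules}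
    {f : G ⟶ (Loc W).obj (Pi c F i)} (hG : Coh.IsQCoh G) (hF : Coh.IsQCoh F) (O : (D.obj i).Opens)
    {κ : Type u} (U : κ → (D.obj i).Opens) (hU : ∀ a, U a ≤ O) (hcov : ∀ x ∈ O, ∃ a, x ∈ U a)
    (hg : ∀ a, Good c f (U a)) : CohB1.IsFP (G.restrict O.ι) := by
  refine QCoh.isFP_of_finitePresentation (QCoh.isQCoh_restrict _ hG) (fun a => O.ι ⁻¹ᵁ U a)
    (top_le_iff.1 fun x _ => ?_) (fun a => ?_) fun a => ?_
  · obtain ⟨a, ha⟩ := hcov _ x.2
    exact Opens.mem_iSup.2 ⟨a, ha⟩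
  · refine (hg a).choose_spec.1.preimage_of_isOpenImmersion O.ι ?_
    rw [Scheme.Opens.opensRange_ι]
    exact hU a
  · let V := O.ι ⁻¹ᵁ U a
    have hV : O.ι ''ᵁ V = U a := (cut_eq O (U a)).trans (inf_eq_right.2 (hU a))
    have hVaff : IsAffineOpen (O.ι ''ᵁ V) := by rw [hV]; exact (hg a).choose_spec.1
    obtain ⟨-, -, hfp, -⟩ := (hg a).restrict hG hF hVaff hV.le
    haveI := hfp
    let ψ : Γ((O : Scheme.{u}), V) →+* Γ(D.obj i, O.ι ''ᵁ V) := (O.ι.appIso V).inv.hom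
    letI : Algebra Γ((O : Scheme.{u}), V) Γ(D.obj i, O.ι ''ᵁ V) := ψ.toAlgebra
    letI : Module Γ((O : Scheme.{u}), V) Γ(G, O.ι ''ᵁ V) := Module.compHom _ ψ
    haveI : IsScalarTower Γ((O : Scheme.{u}), V) Γ(D.obj i, O.ι ''ᵁ V) Γ(G, O.ι ''ᵁ V) :=
      IsScalarTower.of_algebraMap_smul fun _ _ => rfl
    let ea : Γ((O : Scheme.{u}), V) ≃ₗ[Γ((O : Scheme.{u}), V)] Γ(D.obj i, O.ι ''ᵁ V) :=
      LinearEquiv.ofBijective (Algebra.linearMap Γ((O : Scheme.{u}), V) Γ(D.obj i, O.ι ''ᵁ V))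
        (ConcreteCategory.bijective_of_isIso (O.ι.appIso V).inv)
    haveI : Module.FinitePresentation Γ((O : Scheme.{u}), V) Γ(D.obj i, O.ι ''ᵁ V) :=
      Module.FinitePresentation.of_equiv ea
    haveI := Module.FinitePresentation.trans (R := Γ((O : Scheme.{u}), V)) (M := Γ(G, O.ι ''ᵁ V))
      Γ(D.obj i, O.ι ''ᵁ V)
    let e : Γ(G.restrict O.ι, V) ≃ₗ[Γ((O : Scheme.{u}), V)] Γ(G, O.ι ''ᵁ V) :=
      { (G.restrictAppIso O.ι V).addCommGroupIsoToAddEquiv with
        map_smul' := fun r x => congr($(Scheme.Modules.smul_restrictAppIso_hom O.ι G V r) x) }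
    exact Module.FinitePresentation.of_equiv e.symm

/-- Compatibility of a map between two models over the overlap with the maps to `F`, on one open. -/
def Compat {i : I} {W WV V : (D.obj i).Opens} {G₁ G₂ : (D.obj i).Modules} (hW : WV ≤ W) (hV : WV ≤ V)
    (f₁ : G₁ ⟶ (Loc W).obj (Pi c F i)) (f₂ : G₂ ⟶ (Loc V).obj (Pi c F i)) (θ : G₁ ⟶ (Loc WV).obj G₂)
    (A : (D.obj i).Opens) : Prop :=
  ∀ (hA : A ≤ WV) (x : Γ(G₁, A)),
    secF f₂ (hA.trans hV) (evIn WV G₂ hA (θ.app A x)) = secF f₁ (hA.trans hW) x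

/-- The map from the inverse image of a model to the limit to `F`. -/
def limHom {i : I} {WV V : (D.obj i).Opens} (hV : WV ≤ V) {G : (D.obj i).Modules}
    (f : G ⟶ (Loc V).obj (Pi c F i)) :
    (Scheme.Modules.pullback (c.π.app i)).obj G ⟶ (Loc (c.π.app i ⁻¹ᵁ WV)).obj F :=
  raise (c.π.app i) (f ≫ locRes hV (Pi c F i)) (𝟙 (Pi c F i))

omit [IsCofiltered I] in
theorem evIn_limHom_unit {i : I} {WV V : (D.obj i).Opens} (hV : WV ≤ V) {G : (D.obj i).Modules}
    (f : G ⟶ (Loc V).obj (Pi c F i)) {A : (D.obj i).Opens} (hA : A ≤ WV) (y : Γ(G, A)) :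
    evIn (c.π.app i ⁻¹ᵁ WV) F ((c.π.app i).preimage_mono hA)
        ((limHom hV f).app (c.π.app i ⁻¹ᵁ A) (unitSec G (Over.mk (c.π.app i)) A y)) =
      secF f (hA.trans hV) y :=
  (evIn_raise (c.π.app i) (f ≫ locRes hV (Pi c F i)) (𝟙 _) hA y).trans
    (evIn_locRes hV (Pi c F i) hA (f.app A y))

omit [IsCofiltered I] in
/-- The two descriptions of the map from a stage to `F` over an affine open. -/
theorem evIn_limHom_stage {i : I} [∀ {a b : I} (f : a ⟶ b), IsAffineHom (D.map f)]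
    {WV V : (D.obj i).Opens} (hV : WV ≤ V) {G : (D.obj i).Modules} (hG : Coh.IsQCoh G)
    (f : G ⟶ (Loc V).obj (Pi c F i)) {A : (D.obj i).Opens} (hAaff : IsAffineOpen A) (hA : A ≤ WV) (o : Over i)
    (z : Γ((Scheme.Modules.pullback (D.map o.hom)).obj G, D.map o.hom ⁻¹ᵁ A)) :
    evIn (c.π.app i ⁻¹ᵁ WV) F ((c.π.app i).preimage_mono hA)
        ((limHom hV f).app (c.π.app i ⁻¹ᵁ A)
          (show Γ((Scheme.Modules.pullback (c.π.app i)).obj G, c.π.app i ⁻¹ᵁ A) from
            ((pullPush G).map (limToStage D c i o).op).app A z)) =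
      res F (preimage_stage o.hom A).ge
        (secF (raiseF c o.hom f) ((D.map o.hom).preimage_mono (hA.trans hV)) z) := by
  haveI : IsAffineHom (Over.mk (D.map o.hom)).hom := inferInstanceAs (IsAffineHom (D.map o.hom))
  let π := c.π.app i
  let p := D.map o.hom
  let L : Γ((Scheme.Modules.pullback p).obj G, p ⁻¹ᵁ A) → Γ((Scheme.Modules.pullback π).obj G, π ⁻¹ᵁ A) :=
    fun z => ((pullPush G).map (limToStage D c i o).op).app A z
  have hLadd : ∀ x y, L (x + y) = L x + L y := fun x y =>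
    map_add (((pullPush G).map (limToStage D c i o).op).app A).hom x y
  have hLsmul : ∀ (s : Γ(D.obj o.left, p ⁻¹ᵁ A)) x,
      L (s • x) = (c.π.app o.left).appLE (p ⁻¹ᵁ A) (π ⁻¹ᵁ A) (le_stage D c i o A) s • L x := fun s x =>
    pullPush_map_app_smul G (limToStage D c i o) A s x
  have hLu : ∀ y, L (unitSec G (Over.mk p) A y) = unitSec G (Over.mk π) A y := fun y =>
    pullPush_map_app_pullback G (limToStage D c i o) A y
  refine (isBC_unitSec hG (Over.mk p) hAaff).ext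
    (ψ := ((c.π.app o.left).appLE (p ⁻¹ᵁ A) (π ⁻¹ᵁ A) (le_stage D c i o A)).hom)
    (g₁ := fun z => evIn (π ⁻¹ᵁ WV) F (π.preimage_mono hA) ((limHom hV f).app (π ⁻¹ᵁ A) (L z)))
    (g₂ := fun z => res F (preimage_stage o.hom A).ge
      (secF (raiseF c o.hom f) ((D.map o.hom).preimage_mono (hA.trans hV)) z))
    (fun x y => by rw [hLadd, map_add, evIn_add]) (fun x y => ?_)
    (fun s x => ?_) (fun s x => ?_) (fun y => ?_) z
  · rw [secF_add]
    exact map_add _ _ _
  · refine (congrArg (fun t => evIn (π ⁻¹ᵁ WV) F (π.preimage_mono hA) ((limHom hV f).app (π ⁻¹ᵁ A) t))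
      (hLsmul s x)).trans ?_
    rw [Scheme.Modules.Hom.app_smul, evIn_smul]
    rfl
  · rw [secF_smul, res, QCoh.map_smul']
    refine congrArg (fun t : Γ(c.pt, π ⁻¹ᵁ A) => t • _) ?_
    show ((c.π.app o.left).app (p ⁻¹ᵁ A) ≫ c.pt.presheaf.map _) s = _
    rw [Scheme.Hom.app_eq_appLE]
    erw [Scheme.Hom.appLE_map]
    rfl
  · show evIn (π ⁻¹ᵁ WV) F _ ((limHom hV f).app (π ⁻¹ᵁ A) (L (unitSec G (Over.mk p) A y))) = _
    rw [hLu]
    refine (evIn_limHom_unit hV f hA y).trans ?_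
    refine Eq.trans ?_ (congrArg (res F (preimage_stage o.hom A).ge) (secF_raiseF o.hom f (hA.trans hV) y)).symm
    rw [res_res, res_self]

include hc in
/-- Maps between models descend. -/
theorem exists_hom_stage [∀ {a b : I} (f : a ⟶ b), IsAffineHom (D.map f)] {i : I}
    [QuasiSeparatedSpace (D.obj i)] (hF : Coh.IsQCoh F) {W WV V : (D.obj i).Opens} (hW : WV ≤ W) (hV : WV ≤ V)
    {G₁ G₂ : (D.obj i).Modules} (hG₁ : Coh.IsQCoh G₁) (hG₂ : Coh.IsQCoh G₂)
    (f₁ : G₁ ⟶ (Loc W).obj (Pi c F i)) (f₂ : G₂ ⟶ (Loc V).obj (Pi c F i)) (hf₂ : Good c f₂ V)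
    (hWV : IsCompact (WV : Set (D.obj i))) {κ : Type u} (U : κ → (D.obj i).Opens) (hU : ∀ a, U a ≤ WV)
    (hcov : ∀ x ∈ WV, ∃ a, x ∈ U a) (hf₁ : ∀ a, Good c f₁ (U a)) :
    ∃ (k : I) (m : k ⟶ i) (θ : (Scheme.Modules.pullback (D.map m)).obj G₁ ⟶
        (Loc (D.map m ⁻¹ᵁ WV)).obj ((Scheme.Modules.pullback (D.map m)).obj G₂)),
      ∀ a, Compat ((D.map m).preimage_mono hW) ((D.map m).preimage_mono hV) (raiseF c m f₁) (raiseF c m f₂)
        θ (D.map m ⁻¹ᵁ U a) := by
  haveI := isAffineHom_π_app D c hc i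
  haveI : IsAffineHom (limOver D c i).hom := inferInstanceAs (IsAffineHom (c.π.app i))
  haveI : CompactSpace (WV : Scheme.{u}) := isCompact_iff_compactSpace.1 hWV
  haveI : QuasiSeparatedSpace (WV : Scheme.{u}) := quasiSeparatedSpace_of_quasiSeparated WV.ι
  let π := c.π.app i
  let Q : (D.obj i).Modules := (pullPush G₂).obj (op (limOver D c i))
  let ν' : (Scheme.Modules.pullback π).obj G₂ ⟶ (Loc (π ⁻¹ᵁ WV)).obj F := limHom hV f₂
  let β : Q ⟶ (Scheme.Modules.pushforward π).obj ((Loc (π ⁻¹ᵁ WV)).obj F) :=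
    (Scheme.Modules.pushforward π).map ν'
  let μ : G₁ ⟶ (Scheme.Modules.pushforward π).obj ((Loc (π ⁻¹ᵁ WV)).obj F) :=
    f₁ ≫ locRes hW (Pi c F i) ≫ locPush π WV F
  let r := Scheme.Modules.restrictFunctor WV.ι
  have hν : ∀ {A : (D.obj i).Opens} (hA : A ≤ WV) (y : Γ(G₂, A)),
      evIn (π ⁻¹ᵁ WV) F (π.preimage_mono hA) (ν'.app (π ⁻¹ᵁ A) (unitSec G₂ (Over.mk π) A y)) =
        secF f₂ (hA.trans hV) y := fun {A} hA y => evIn_limHom_unit hV f₂ hA y
  have hμ : ∀ {A : (D.obj i).Opens} (hA : A ≤ WV) (x : Γ(G₁, A)),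
      evIn (π ⁻¹ᵁ WV) F (π.preimage_mono hA) (show Γ((Loc (π ⁻¹ᵁ WV)).obj F, π ⁻¹ᵁ A) from μ.app A x) =
        secF f₁ (hA.trans hW) x := fun {A} hA x =>
    (evIn_locPush π WV F hA _).trans (evIn_locRes hW (Pi c F i) hA (f₁.app A x))
  haveI : IsIso (r.map β) := by
    refine RPSM.isIso_of_bijective_affines _ fun A => ?_
    let A' := WV.ι ''ᵁ A.1
    have hA : A' ≤ WV := WV.ι_image_le A.1
    have hA'aff : IsAffineOpen A' := A.2.image_of_isOpenImmersion WV.ι
    obtain ⟨_, _, _, hbc⟩ := hf₂.restrict hG₂ hF hA'aff (hA.trans hV)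
    have hb : Function.Bijective fun z : Γ((Scheme.Modules.pullback π).obj G₂, π ⁻¹ᵁ A') =>
        evIn (π ⁻¹ᵁ WV) F (π.preimage_mono hA) (ν'.app (π ⁻¹ᵁ A') z) :=
      IsBC.bijective_of_comp (S := Γ(c.pt, π ⁻¹ᵁ A')) (φ := (π.app A').hom)
        (N := Γ((Scheme.Modules.pullback π).obj G₂, π ⁻¹ᵁ A')) (f := unitSec G₂ (Over.mk π) A') (isBC_unitSec hG₂ (Over.mk π) hA'aff) hbc
        (fun z => evIn (π ⁻¹ᵁ WV) F (π.preimage_mono hA) (ν'.app (π ⁻¹ᵁ A') z))
        (fun x y => by rw [map_add, evIn_add]) (fun s x => by rw [Scheme.Modules.Hom.app_smul, evIn_smul])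
        (hν hA)
    have : Function.Bijective (ν'.app (π ⁻¹ᵁ A')) :=
      ⟨fun x y h => hb.1 (congrArg (evIn (π ⁻¹ᵁ WV) F (π.preimage_mono hA)) h), fun y => by
        obtain ⟨z, hz⟩ := hb.2 (evIn (π ⁻¹ᵁ WV) F (π.preimage_mono hA) y)
        exact ⟨z, (evIn_bijective _ _ _).1 hz⟩⟩
    exact this
  have hH : IsFinitelyPresentable.{u} ((KFlatLib.lsh WV.ι).obj (G₁.restrict WV.ι)) :=
    RPSM.isFinitelyPresentable_lsh WV.ι (RPSM.isFinitelyPresentable_of_isFP (QCoh.isQCoh_restrict _ hG₁)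
      (isFP_restrict_of_good hG₁ hF WV U hU hcov hf₁))
  obtain ⟨hcol⟩ := nonempty_isColimit_cocone hc hG₂
  obtain ⟨o, ζo, hζ⟩ := IsFinitelyPresentable.exists_hom_of_isColimit hcol
    (((KFlatLib.lshAdj WV.ι).homEquiv _ _).symm (r.map μ ≫ inv (r.map β)))
  let k := o.unop.left
  let m : k ⟶ i := o.unop.hom
  let p := D.map m
  obtain ⟨θo, hθo⟩ := exists_toLoc_of_lsh WV β μ ((cocone D c i G₂).ι.app o) ζo hζ
  refine ⟨k, m, raise p θo (𝟙 ((Scheme.Modules.pushforward p).obj ((Scheme.Modules.pullback p).obj G₂))),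
    fun a hA x => ?_⟩
  haveI := isAffineHom_π_app D c hc k
  haveI : IsAffineHom (Over.mk p).hom := inferInstanceAs (IsAffineHom (D.map m))
  let A := U a
  have hAaff : IsAffineOpen A := (hf₁ a).choose_spec.1
  have key := evIn_limHom_stage (F := F) hV hG₂ f₂ hAaff (hU a) o.unop
  let pp : (D.obj i).Modules := (Scheme.Modules.pushforward p).obj ((Scheme.Modules.pullback p).obj G₂)
  let θ := raise p θo (𝟙 pp)
  refine (isBC_unitSec hG₁ (Over.mk p) hAaff).ext (ψ := ((c.π.app k).app (p ⁻¹ᵁ A)).hom)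
    (g₁ := fun t => secF (raiseF c m f₂) (hA.trans (p.preimage_mono hV))
      (evIn (p ⁻¹ᵁ WV) _ hA (θ.app (p ⁻¹ᵁ A) t)))
    (g₂ := secF (raiseF c m f₁) (hA.trans (p.preimage_mono hW)))
    (fun x y => by rw [map_add, evIn_add, secF_add]) (secF_add _ _)
    (fun s x => by rw [Scheme.Modules.Hom.app_smul, evIn_smul, secF_smul]; rfl) (secF_smul _ _) (fun s => ?_) x
  let z : Γ((Scheme.Modules.pullback p).obj G₂, p ⁻¹ᵁ A) := evIn WV pp (hU a) (θo.app A s)
  show secF (raiseF c m f₂) _ (evIn (p ⁻¹ᵁ WV) _ (p.preimage_mono (hU a))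
      (θ.app (p ⁻¹ᵁ A) (unitSec G₁ (Over.mk p) A s))) =
    secF (raiseF c m f₁) (p.preimage_mono ((hU a).trans hW)) (unitSec G₁ (Over.mk p) A s)
  rw [evIn_raise p θo (𝟙 pp) (hU a) s, secF_raiseF m f₁ ((hU a).trans hW) s]
  show secF (raiseF c m f₂) _ z = _
  have h2 : res F (preimage_stage m A).ge (secF (raiseF c m f₂) (p.preimage_mono ((hU a).trans hV)) z) =
      secF f₁ ((hU a).trans hW) s :=
    (key z).symm.trans ((congrArg (evIn (π ⁻¹ᵁ WV) F (π.preimage_mono (hU a)))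
      (hθo A (hU a) s)).trans (hμ (hU a) s))
  rw [← h2, res_res, res_self]

end Groth.Agent.ModDescent24
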