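import Mathlib

/-!
# Base change of modules along ring maps, with the maps in hand
-/

set_option autoImplicit false
set_option linter.style.haveILetI false

universe u

open TensorProduct

namespace Groth.Agent.ModDescent24

variable {R S S' : Type u} [CommRing R] [CommRing S] [CommRing S'] {M N N' : Type u} [AddCommGroup M] [Module R M]
  [AddCommGroup N] [Module S N] [AddCommGroup N'] [Module S' N']

/-- `f : M → N` exhibits `N` as the base change of `M` along `φ`. -/
def IsBC (φ : R →+* S) (f : M → N) : Prop :=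
  letI := φ.toAlgebra
  letI := Module.compHom N φ
  haveI : IsScalarTower R S N := .of_algebraMap_smul fun _ _ => rfl
  ∃ l : M →ₗ[R] N, (∀ x, l x = f x) ∧ IsBaseChange S l

theorem IsBC.map_add {φ : R →+* S} {f : M → N} (h : IsBC φ f) (x y : M) : f (x + y) = f x + f y := by
  let := φ.toAlgebra
  let := Module.compHom N φ
  obtain ⟨l, hl, -⟩ := h
  rw [← hl, ← hl, ← hl]
  exact LinearMap.map_add l x y

theorem IsBC.map_smul {φ : R →+* S} {f : M → N} (h : IsBC φ f) (r : R) (x : M) : f (r • x) = φ r • f x := by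
  let := φ.toAlgebra
  let := Module.compHom N φ
  obtain ⟨l, hl, -⟩ := h
  rw [← hl, ← hl]
  exact LinearMap.map_smul l r x

theorem IsBC.congr {φ φ' : R →+* S} {f f' : M → N} (h : IsBC φ f) (hφ : φ = φ') (hf : ∀ x, f x = f' x) :
    IsBC φ' f' := by
  subst hφ
  rw [show f' = f from funext fun x => (hf x).symm]
  exact h

/-- Base changes compose. -/
theorem IsBC.comp {φ : R →+* S} {ψ : S →+* S'} {f : M → N} {g : N → N'} (hf : IsBC φ f) (hg : IsBC ψ g) :
    IsBC (ψ.comp φ) (g ∘ f) := by
  let := φ.toAlgebra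
  let := ψ.toAlgebra
  let := (ψ.comp φ).toAlgebra
  haveI : IsScalarTower R S S' := .of_algebraMap_eq fun _ => rfl
  let := Module.compHom N φ
  haveI : IsScalarTower R S N := .of_algebraMap_smul fun _ _ => rfl
  let := Module.compHom N' ψ
  haveI : IsScalarTower S S' N' := .of_algebraMap_smul fun _ _ => rfl
  let := Module.compHom N' (ψ.comp φ)
  haveI : IsScalarTower R S' N' := .of_algebraMap_smul fun _ _ => rfl
  haveI : IsScalarTower R S N' := .of_algebraMap_smul fun _ _ => rfl
  obtain ⟨lf, hlf, hf⟩ := hf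
  obtain ⟨lg, hlg, hg⟩ := hg
  exact ⟨(lg.restrictScalars R).comp lf, fun x => by
    show lg (lf x) = g (f x)
    rw [hlg, hlf], hf.comp hg⟩

/-- Cancellation of base changes. -/
theorem IsBC.of_comp {φ : R →+* S} {ψ : S →+* S'} {f : M → N} {g : N → N'} (hf : IsBC φ f)
    (hadd : ∀ x y, g (x + y) = g x + g y) (hsmul : ∀ s x, g (s • x) = ψ s • g x)
    (h : IsBC (ψ.comp φ) (g ∘ f)) : IsBC ψ g := by
  let := φ.toAlgebra
  let := ψ.toAlgebra
  let := (ψ.comp φ).toAlgebra
  haveI : IsScalarTower R S S' := .of_algebraMap_eq fun _ => rfl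
  let := Module.compHom N φ
  haveI : IsScalarTower R S N := .of_algebraMap_smul fun _ _ => rfl
  let := Module.compHom N' ψ
  haveI : IsScalarTower S S' N' := .of_algebraMap_smul fun _ _ => rfl
  let := Module.compHom N' (ψ.comp φ)
  haveI : IsScalarTower R S' N' := .of_algebraMap_smul fun _ _ => rfl
  haveI : IsScalarTower R S N' := .of_algebraMap_smul fun _ _ => rfl
  obtain ⟨lf, hlf, hf⟩ := hf
  obtain ⟨lh, hlh, h⟩ := h
  refine ⟨{ toFun := g, map_add' := hadd, map_smul' := hsmul }, fun _ => rfl, IsBaseChange.of_comp hf ?_⟩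
  have : (({ toFun := g, map_add' := hadd, map_smul' := hsmul } : N →ₗ[S] N').restrictScalars R).comp lf = lh :=
    LinearMap.ext fun x => by
      show g (lf x) = lh x
      rw [hlh, hlf]
      rfl
  rw [this]
  exact h

theorem IsBC.exists_equiv {φ : R →+* S} {f : M → N} (h : IsBC φ f) :
    letI := φ.toAlgebra
    ∃ e : S ⊗[R] M ≃+ N, ∀ s x, e (s ⊗ₜ x) = s • f x := by
  let := φ.toAlgebra
  let := Module.compHom N φ
  haveI : IsScalarTower R S N := .of_algebraMap_smul fun _ _ => rfl
  obtain ⟨l, hl, h⟩ := h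
  exact ⟨h.equiv.toAddEquiv, fun s x => by rw [← hl]; exact h.equiv_tmul s x⟩

theorem IsBC.finitePresentation {φ : R →+* S} {f : M → N} (h : IsBC φ f) [Module.FinitePresentation R M] :
    Module.FinitePresentation S N := by
  let := φ.toAlgebra
  let := Module.compHom N φ
  haveI : IsScalarTower R S N := .of_algebraMap_smul fun _ _ => rfl
  obtain ⟨l, hl, h⟩ := h
  exact Module.FinitePresentation.of_equiv h.equiv

/-- A base change by an identity. -/
theorem IsBC.of_bijective {R M N : Type u} [CommRing R] [AddCommGroup M] [Module R M] [AddCommGroup N] [Module R N]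
    {f : M → N} (hadd : ∀ x y, f (x + y) = f x + f y) (hsmul : ∀ (r : R) x, f (r • x) = r • f x)
    (h : Function.Bijective f) : IsBC (RingHom.id R) f := by
  let l : M →ₗ[R] N := { toFun := f, map_add' := hadd, map_smul' := hsmul }
  exact ⟨{ toFun := f, map_add' := hadd, map_smul' := hsmul }, fun _ => rfl,
    IsBaseChange.ofEquiv (LinearEquiv.ofBijective l h)⟩

end Groth.Agent.ModDescent24
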