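import Groth.Agent.ModDescent24.PullPush
import Groth.Agent.ZClosLib.ColimSections

/-!
# The localisation `j_* j^* M` of a module at an open, by sections
-/

set_option autoImplicit false
set_option linter.style.haveILetI false
set_option backward.isDefEq.respectTransparency false
set_option backward.isDefEq.respectTransparency.types false
set_option maxHeartbeats 1000000

universe u

open CategoryTheory CategoryTheory.Limits AlgebraicGeometry TopologicalSpace Opposite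

noncomputable section

namespace Groth.Agent.ModDescent24

open ZClosLib (res res_res res_self app_res res_eq_of_cover exists_glue)

variable {T : Scheme.{u}}

/-- `j_* j^*` for an open. -/
abbrev Loc (W : T.Opens) : T.Modules ⥤ T.Modules :=
  Scheme.Modules.restrictFunctor W.ι ⋙ Scheme.Modules.pushforward W.ι

theorem cut_eq (W O : T.Opens) : W.ι ''ᵁ (W.ι ⁻¹ᵁ O) = W ⊓ O := by
  rw [Scheme.Hom.image_preimage_eq_opensRange_inf, Scheme.Opens.opensRange_ι]

/-- Sections of the localisation are sections over the intersection. -/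
def ev (W : T.Opens) (M : T.Modules) (O : T.Opens) (s : Γ((Loc W).obj M, O)) : Γ(M, W ⊓ O) :=
  res M (cut_eq W O).ge (show Γ(M, W.ι ''ᵁ (W.ι ⁻¹ᵁ O)) from s)

/-- Inverse of `ev`. -/
def unev (W : T.Opens) (M : T.Modules) (O : T.Opens) (s : Γ(M, W ⊓ O)) : Γ((Loc W).obj M, O) :=
  res M (cut_eq W O).le s

@[simp] theorem ev_unev (W : T.Opens) (M : T.Modules) (O : T.Opens) (s : Γ(M, W ⊓ O)) :
    ev W M O (unev W M O s) = s :=
  (res_res M _ _ s).trans (res_self M _ s)

@[simp] theorem unev_ev (W : T.Opens) (M : T.Modules) (O : T.Opens) (s : Γ((Loc W).obj M, O)) :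
    unev W M O (ev W M O s) = s :=
  (res_res M _ _ _).trans (res_self M _ _)

theorem ev_injective (W : T.Opens) (M : T.Modules) (O : T.Opens) : Function.Injective (ev W M O) :=
  fun s t h => by rw [← unev_ev W M O s, h, unev_ev]

theorem ev_add (W : T.Opens) (M : T.Modules) (O : T.Opens) (s t : Γ((Loc W).obj M, O)) :
    ev W M O (s + t) = ev W M O s + ev W M O t :=
  map_add (M.presheaf.map _).hom _ _

theorem ev_zero (W : T.Opens) (M : T.Modules) (O : T.Opens) : ev W M O 0 = 0 :=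
  map_zero (M.presheaf.map _).hom

theorem ev_smul (W : T.Opens) (M : T.Modules) (O : T.Opens) (r : Γ(T, O)) (s : Γ((Loc W).obj M, O)) :
    ev W M O (r • s) = T.presheaf.map (homOfLE (inf_le_right : W ⊓ O ≤ O)).op r • ev W M O s := by
  have h : (r • s : Γ((Loc W).obj M, O)) = (show Γ(M, W.ι ''ᵁ (W.ι ⁻¹ᵁ O)) from
      T.presheaf.map (homOfLE ((cut_eq W O).le.trans inf_le_right)).op r •
        (show Γ(M, W.ι ''ᵁ (W.ι ⁻¹ᵁ O)) from s)) := by
    refine (QCoh.pushforward_smul W.ι O r _).trans ?_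
    show ((W.ι.appIso _).inv (W.ι.app O r)) • (show Γ(M, W.ι ''ᵁ (W.ι ⁻¹ᵁ O)) from s) = _
    refine congrArg (· • (show Γ(M, W.ι ''ᵁ (W.ι ⁻¹ᵁ O)) from s)) ?_
    exact ConcreteCategory.congr_hom (Scheme.Hom.app_appIso_inv W.ι O) r
  rw [h, ev, res, QCoh.map_smul']
  congr 1
  exact QCoh.ringMap_map _ _ r

theorem ev_res (W : T.Opens) (M : T.Modules) {O O' : T.Opens} (h : O' ≤ O) (s : Γ((Loc W).obj M, O)) :
    ev W M O' (res ((Loc W).obj M) h s) = res M (inf_le_inf_left W h) (ev W M O s) := by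
  have hle : W.ι ''ᵁ (W.ι ⁻¹ᵁ O') ≤ W.ι ''ᵁ (W.ι ⁻¹ᵁ O) :=
    (cut_eq W O').le.trans ((inf_le_inf_left W h).trans (cut_eq W O).ge)
  show res M (cut_eq W O').ge (res M hle (show Γ(M, W.ι ''ᵁ (W.ι ⁻¹ᵁ O)) from s)) =
    res M (inf_le_inf_left W h) (res M (cut_eq W O).ge (show Γ(M, W.ι ''ᵁ (W.ι ⁻¹ᵁ O)) from s))
  rw [res_res, res_res]

theorem ev_map (W : T.Opens) {M N : T.Modules} (φ : M ⟶ N) (O : T.Opens) (s : Γ((Loc W).obj M, O)) :
    ev W N O (((Loc W).map φ).app O s) = φ.app (W ⊓ O) (ev W M O s) :=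
  (app_res φ _ _).symm

/-- Sections over an open inside `W`. -/
def evIn (W : T.Opens) (M : T.Modules) {O : T.Opens} (h : O ≤ W) (s : Γ((Loc W).obj M, O)) : Γ(M, O) :=
  res M (le_inf h le_rfl) (ev W M O s)

/-- Equality into a localisation. -/
theorem hom_ext_loc {W : T.Opens} {M N : T.Modules} {φ ψ : M ⟶ (Loc W).obj N}
    (h : ∀ O s, ev W N O (φ.app O s) = ev W N O (ψ.app O s)) : φ = ψ :=
  Scheme.Modules.hom_ext _ _ fun O => ConcreteCategory.hom_ext _ _ fun s => ev_injective _ _ _ (h O s)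

/-- A map into a localisation from compatible maps of sections. -/
theorem exists_homToLoc {W : T.Opens} {M N : T.Modules} (a : ∀ O : T.Opens, Γ(M, O) → Γ(N, W ⊓ O))
    (hadd : ∀ O s t, a O (s + t) = a O s + a O t)
    (hsmul : ∀ O (r : Γ(T, O)) s, a O (r • s) = T.presheaf.map (homOfLE (inf_le_right : W ⊓ O ≤ O)).op r • a O s)
    (hres : ∀ {O O' : T.Opens} (h : O' ≤ O) s, a O' (res M h s) = res N (inf_le_inf_left W h) (a O s)) :
    ∃ φ : M ⟶ (Loc W).obj N, ∀ O s, ev W N O (φ.app O s) = a O s := by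
  let g : ∀ O : T.Opens, Γ(M, O) →+ Γ((Loc W).obj N, O) := fun O =>
    AddMonoidHom.mk' (fun s => unev W N O (a O s)) fun s t => ev_injective W N O (by
      rw [ev_add, ev_unev, ev_unev, ev_unev, hadd])
  let ψ : M.presheaf ⟶ ((Loc W).obj N).presheaf :=
    { app := fun O => AddCommGrpCat.ofHom (g O.unop)
      naturality := fun O O' i => by
        ext s
        refine ev_injective W N O'.unop ?_
        show ev W N _ (unev W N _ (a _ (M.presheaf.map i s))) = ev W N _ (res _ i.unop.le (unev W N _ (a _ s)))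
        rw [ev_res, ev_unev, ev_unev]
        exact hres i.unop.le s }
  refine ⟨⟨PresheafOfModules.homMk ψ fun O r s => ev_injective W N O.unop ?_⟩, fun O s => ev_unev W N O _⟩
  show ev W N _ (unev W N _ (a _ (r • s))) = ev W N _ (@HSMul.hSMul _ _ _ _ (show Γ(T, O.unop) from r) (unev W N _ (a _ s)))
  rw [ev_smul, ev_unev, ev_unev]
  exact hsmul _ r s

/-- The unit `M ⟶ Loc W M`. -/
theorem exists_toLoc (W : T.Opens) (M : T.Modules) :
    ∃ φ : M ⟶ (Loc W).obj M, ∀ O s, ev W M O (φ.app O s) = res M inf_le_right s :=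
  exists_homToLoc (fun O s => res M inf_le_right s) (fun O s t => map_add (M.presheaf.map _).hom s t)
    (fun O r s => QCoh.map_smul' _ r s) (fun h s => (res_res M _ _ s).trans (res_res M _ _ s).symm)

/-- The unit `M ⟶ Loc W M`. -/
def toLoc (W : T.Opens) (M : T.Modules) : M ⟶ (Loc W).obj M := (exists_toLoc W M).choose

theorem ev_toLoc (W : T.Opens) (M : T.Modules) (O : T.Opens) (s : Γ(M, O)) :
    ev W M O ((toLoc W M).app O s) = res M inf_le_right s := (exists_toLoc W M).choose_spec O s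

/-- Restriction to a smaller open. -/
theorem exists_locRes {W W' : T.Opens} (h : W' ≤ W) (M : T.Modules) :
    ∃ φ : (Loc W).obj M ⟶ (Loc W').obj M,
      ∀ O s, ev W' M O (φ.app O s) = res M (inf_le_inf_right O h) (ev W M O s) :=
  exists_homToLoc (fun O s => res M (inf_le_inf_right O h) (ev W M O s))
    (fun O s t => by rw [ev_add]; exact map_add (M.presheaf.map _).hom _ _)
    (fun O r s => by
      rw [ev_smul, res, QCoh.map_smul']
      congr 1
      exact QCoh.ringMap_map _ _ r)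
    (fun h s => by rw [ev_res, res_res, res_res])

/-- Restriction to a smaller open. -/
def locRes {W W' : T.Opens} (h : W' ≤ W) (M : T.Modules) : (Loc W).obj M ⟶ (Loc W').obj M :=
  (exists_locRes h M).choose

theorem ev_locRes {W W' : T.Opens} (h : W' ≤ W) (M : T.Modules) (O : T.Opens) (s : Γ((Loc W).obj M, O)) :
    ev W' M O ((locRes h M).app O s) = res M (inf_le_inf_right O h) (ev W M O s) :=
  (exists_locRes h M).choose_spec O s

/-- A map into `Loc W N` on sections over `W ⊓ O`, extended from one into a localisation. -/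
theorem exists_locExtend {W W' : T.Opens} (h : W' ≤ W) {M N : T.Modules} (θ : M ⟶ (Loc W').obj N) :
    ∃ φ : (Loc W).obj M ⟶ (Loc W').obj N, ∀ O s, ev W' N O (φ.app O s) =
      res N (le_inf inf_le_left (inf_le_inf_right O h)) (ev W' N (W ⊓ O) (θ.app (W ⊓ O) (ev W M O s))) :=
  exists_homToLoc
    (fun O s => res N (le_inf inf_le_left (inf_le_inf_right O h))
      (ev W' N (W ⊓ O) (θ.app (W ⊓ O) (ev W M O s))))
    (fun O s t => by
      rw [ev_add, map_add, ev_add]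
      exact map_add (N.presheaf.map _).hom _ _)
    (fun O r s => by
      rw [ev_smul, Scheme.Modules.Hom.app_smul, ev_smul, res, QCoh.map_smul']
      congr 1
      exact (QCoh.ringMap_map _ _ _).trans (QCoh.ringMap_map _ _ r))
    (fun h' s => by rw [ev_res, app_res, ev_res, res_res, res_res])

/-- A map into the localisation at a union from compatible maps into the localisations. -/
theorem exists_glueLoc {W₁ W₂ : T.Opens} {M N : T.Modules} (φ₁ : M ⟶ (Loc W₁).obj N)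
    (φ₂ : M ⟶ (Loc W₂).obj N)
    (h : ∀ O s, res N (inf_le_inf_right O inf_le_left : W₁ ⊓ W₂ ⊓ O ≤ W₁ ⊓ O) (ev W₁ N O (φ₁.app O s)) =
      res N (inf_le_inf_right O inf_le_right) (ev W₂ N O (φ₂.app O s))) :
    ∃ φ : M ⟶ (Loc (W₁ ⊔ W₂)).obj N,
      φ ≫ locRes le_sup_left N = φ₁ ∧ φ ≫ locRes le_sup_right N = φ₂ := by
  let W : ULift.{u} Bool → T.Opens := fun b => bif b.down then W₁ else W₂
  have hW : ∀ O b, W b ⊓ O ≤ (W₁ ⊔ W₂) ⊓ O := fun O b => inf_le_inf_right O (by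
    rcases b with ⟨_ | _⟩ <;> simp [W])
  have hcov : ∀ O, ∀ x ∈ (W₁ ⊔ W₂) ⊓ O, ∃ b, x ∈ W b ⊓ O := fun O x hx => by
    rcases Opens.mem_sup.1 hx.1 with h' | h'
    · exact ⟨⟨true⟩, h', hx.2⟩
    · exact ⟨⟨false⟩, h', hx.2⟩
  let sec : ∀ O, Γ(M, O) → ∀ b, Γ(N, W b ⊓ O) := fun O s b =>
    match b with
    | ⟨true⟩ => ev W₁ N O (φ₁.app O s)
    | ⟨false⟩ => ev W₂ N O (φ₂.app O s)
  have hsec : ∀ O s b b', res N inf_le_left (sec O s b) = res N (inf_le_right : _ ≤ W b' ⊓ O) (sec O s b') := by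
    intro O s b b'
    rcases b with ⟨_ | _⟩ <;> rcases b' with ⟨_ | _⟩
    · rfl
    · have := congrArg (res N (show (W₂ ⊓ O) ⊓ (W₁ ⊓ O) ≤ W₁ ⊓ W₂ ⊓ O from
        le_inf (le_inf (inf_le_right.trans inf_le_left) (inf_le_left.trans inf_le_left))
          (inf_le_left.trans inf_le_right))) (h O s)
      rw [res_res, res_res] at this
      exact this.symm
    · have := congrArg (res N (show (W₁ ⊓ O) ⊓ (W₂ ⊓ O) ≤ W₁ ⊓ W₂ ⊓ O from
        le_inf (le_inf (inf_le_left.trans inf_le_left) (inf_le_right.trans inf_le_left))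
          (inf_le_left.trans inf_le_right))) (h O s)
      rw [res_res, res_res] at this
      exact this
    · rfl
  choose a ha using fun O s => exists_glue N (fun b => W b ⊓ O) (hW O) (hcov O) (sec O s) (hsec O s)
  have ext : ∀ O (x y : Γ(N, (W₁ ⊔ W₂) ⊓ O)), (∀ b, res N (hW O b) x = res N (hW O b) y) → x = y :=
    fun O x y hxy => res_eq_of_cover N (fun b => W b ⊓ O) (hW O) (hcov O) x y hxy
  obtain ⟨φ, hφ⟩ := exists_homToLoc (W := W₁ ⊔ W₂) a
    (fun O s t => ext O _ _ fun b => by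
      rw [ha]
      refine Eq.trans ?_ (map_add (N.presheaf.map _).hom _ _).symm
      show _ = res N (hW O b) (a O s) + res N (hW O b) (a O t)
      rw [ha, ha]
      rcases b with ⟨_ | _⟩
      · show ev W₂ N O (φ₂.app O (s + t)) = ev W₂ N O (φ₂.app O s) + ev W₂ N O (φ₂.app O t)
        rw [map_add, ev_add]
      · show ev W₁ N O (φ₁.app O (s + t)) = ev W₁ N O (φ₁.app O s) + ev W₁ N O (φ₁.app O t)
        rw [map_add, ev_add])
    (fun O r s => ext O _ _ fun b => by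
      rw [ha, res, QCoh.map_smul', ← res, ha]
      rcases b with ⟨_ | _⟩
      · show ev W₂ N O (φ₂.app O (r • s)) = _
        rw [Scheme.Modules.Hom.app_smul, ev_smul]
        exact congrArg₂ (fun (x : Γ(T, W₂ ⊓ O)) (y : Γ(N, W₂ ⊓ O)) => x • y)
          (QCoh.ringMap_map _ _ r).symm rfl
      · show ev W₁ N O (φ₁.app O (r • s)) = _
        rw [Scheme.Modules.Hom.app_smul, ev_smul]
        exact congrArg₂ (fun (x : Γ(T, W₁ ⊓ O)) (y : Γ(N, W₁ ⊓ O)) => x • y)
          (QCoh.ringMap_map _ _ r).symm rfl)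
    (fun {O O'} h' s => ext O' _ _ fun b => by
      rw [ha, res_res, ← res_res N (inf_le_inf_left (W b) h') (hW O b), ha]
      rcases b with ⟨_ | _⟩
      · show ev W₂ N O' (φ₂.app O' (res M h' s)) = _
        rw [app_res, ev_res]
        rfl
      · show ev W₁ N O' (φ₁.app O' (res M h' s)) = _
        rw [app_res, ev_res]
        rfl)
  refine ⟨φ, hom_ext_loc fun O s => ?_, hom_ext_loc fun O s => ?_⟩
  · show ev W₁ N O ((locRes le_sup_left N).app O (φ.app O s)) = _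
    rw [ev_locRes, hφ]
    exact ha O s ⟨true⟩
  · show ev W₂ N O ((locRes le_sup_right N).app O (φ.app O s)) = _
    rw [ev_locRes, hφ]
    exact ha O s ⟨false⟩

/-- Localisation and direct image. -/
theorem exists_locPush {T' : Scheme.{u}} (p : T' ⟶ T) (W : T.Opens) (M : T'.Modules) :
    ∃ φ : (Loc W).obj ((Scheme.Modules.pushforward p).obj M) ⟶
        (Scheme.Modules.pushforward p).obj ((Loc (p ⁻¹ᵁ W)).obj M),
      ∀ O s, ev (p ⁻¹ᵁ W) M (p ⁻¹ᵁ O)
          (show Γ((Loc (p ⁻¹ᵁ W)).obj M, p ⁻¹ᵁ O) from φ.app O s) =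
        (show Γ(M, p ⁻¹ᵁ W ⊓ p ⁻¹ᵁ O) from ev W ((Scheme.Modules.pushforward p).obj M) O s) := by
  let a : ∀ O : T.Opens, Γ((Loc W).obj ((Scheme.Modules.pushforward p).obj M), O) →+
      Γ((Scheme.Modules.pushforward p).obj ((Loc (p ⁻¹ᵁ W)).obj M), O) := fun O =>
    AddMonoidHom.mk' (fun s => unev (p ⁻¹ᵁ W) M (p ⁻¹ᵁ O)
        (show Γ(M, p ⁻¹ᵁ W ⊓ p ⁻¹ᵁ O) from ev W ((Scheme.Modules.pushforward p).obj M) O s))
      fun s t => ev_injective (p ⁻¹ᵁ W) M (p ⁻¹ᵁ O) (by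
        rw [ev_unev]
        refine Eq.trans (ev_add W _ O s t) ?_
        refine Eq.trans ?_ (ev_add _ _ _ _ _).symm
        rw [ev_unev, ev_unev])
  let ψ : ((Loc W).obj ((Scheme.Modules.pushforward p).obj M)).presheaf ⟶
      ((Scheme.Modules.pushforward p).obj ((Loc (p ⁻¹ᵁ W)).obj M)).presheaf :=
    { app := fun O => AddCommGrpCat.ofHom (a O.unop)
      naturality := fun O O' i => by
        ext s
        refine ev_injective (p ⁻¹ᵁ W) M (p ⁻¹ᵁ O'.unop) ?_
        show ev (p ⁻¹ᵁ W) M (p ⁻¹ᵁ O'.unop) (unev (p ⁻¹ᵁ W) M (p ⁻¹ᵁ O'.unop)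
            (show Γ(M, p ⁻¹ᵁ W ⊓ p ⁻¹ᵁ O'.unop) from
              ev W ((Scheme.Modules.pushforward p).obj M) O'.unop (res _ i.unop.le s))) =
          ev (p ⁻¹ᵁ W) M (p ⁻¹ᵁ O'.unop) (res ((Loc (p ⁻¹ᵁ W)).obj M) (p.preimage_mono i.unop.le)
            (unev (p ⁻¹ᵁ W) M (p ⁻¹ᵁ O.unop) (show Γ(M, p ⁻¹ᵁ W ⊓ p ⁻¹ᵁ O.unop) from
              ev W ((Scheme.Modules.pushforward p).obj M) O.unop s)))
        rw [ev_unev, ev_res (p ⁻¹ᵁ W), ev_unev, ev_res]
        rfl }
  refine ⟨⟨PresheafOfModules.homMk ψ fun O r s => ev_injective (p ⁻¹ᵁ W) M (p ⁻¹ᵁ O.unop) ?_⟩,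
    fun O s => ev_unev _ _ _ _⟩
  show ev (p ⁻¹ᵁ W) M (p ⁻¹ᵁ O.unop) (unev (p ⁻¹ᵁ W) M (p ⁻¹ᵁ O.unop)
      (show Γ(M, p ⁻¹ᵁ W ⊓ p ⁻¹ᵁ O.unop) from ev W ((Scheme.Modules.pushforward p).obj M) O.unop
        (@HSMul.hSMul _ _ _ _ (show Γ(T, O.unop) from r)
          (show Γ((Loc W).obj ((Scheme.Modules.pushforward p).obj M), O.unop) from s)))) =
    ev (p ⁻¹ᵁ W) M (p ⁻¹ᵁ O.unop) (p.app O.unop (show Γ(T, O.unop) from r) •
      unev (p ⁻¹ᵁ W) M (p ⁻¹ᵁ O.unop) (show Γ(M, p ⁻¹ᵁ W ⊓ p ⁻¹ᵁ O.unop) from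
        ev W ((Scheme.Modules.pushforward p).obj M) O.unop s))
  rw [ev_unev, ev_smul (p ⁻¹ᵁ W), ev_unev, ev_smul]
  refine (QCoh.pushforward_smul p _ _ _).trans ?_
  congr 1
  exact ConcreteCategory.congr_hom (p.naturality (homOfLE inf_le_right).op) (show Γ(T, O.unop) from r)

/-- Localisation and direct image. -/
def locPush {T' : Scheme.{u}} (p : T' ⟶ T) (W : T.Opens) (M : T'.Modules) :=
  (exists_locPush p W M).choose

/-- Pulling back a map into a localisation. -/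
def raise {T' : Scheme.{u}} (p : T' ⟶ T) {W : T.Opens} {G N : T.Modules} {N' : T'.Modules}
    (h : G ⟶ (Loc W).obj N) (v : N ⟶ (Scheme.Modules.pushforward p).obj N') :
    (Scheme.Modules.pullback p).obj G ⟶ (Loc (p ⁻¹ᵁ W)).obj N' :=
  ((Scheme.Modules.pullbackPushforwardAdjunction p).homEquiv _ _).symm
    (h ≫ (Loc W).map v ≫ locPush p W N')

theorem ev_raise_unit {T' : Scheme.{u}} (p : T' ⟶ T) {W : T.Opens} {G N : T.Modules} {N' : T'.Modules}
    (h : G ⟶ (Loc W).obj N) (v : N ⟶ (Scheme.Modules.pushforward p).obj N') (O : T.Opens) (s : Γ(G, O)) :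
    ev (p ⁻¹ᵁ W) N' (p ⁻¹ᵁ O) ((raise p h v).app (p ⁻¹ᵁ O)
        (show Γ((Scheme.Modules.pullback p).obj G, p ⁻¹ᵁ O) from
          ((Scheme.Modules.pullbackPushforwardAdjunction p).unit.app G).app O s)) =
      (show Γ(N', p ⁻¹ᵁ W ⊓ p ⁻¹ᵁ O) from v.app (W ⊓ O) (ev W N O (h.app O s))) := by
  have e := congrArg (fun t => t.app O s)
    (((Scheme.Modules.pullbackPushforwardAdjunction p).homEquiv_unit _ _ (raise p h v)).symm.trans
      (((Scheme.Modules.pullbackPushforwardAdjunction p).homEquiv _ _).apply_symm_apply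
        (h ≫ (Loc W).map v ≫ locPush p W N')))
  refine (congrArg (ev (p ⁻¹ᵁ W) N' (p ⁻¹ᵁ O)) e).trans ?_
  refine ((exists_locPush p W N').choose_spec O _).trans ?_
  exact ev_map W v O _

end Groth.Agent.ModDescent24
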