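import Mathlib.AlgebraicGeometry.Modules.Sheaf
import Groth.Agent.RPSM.PushColim

/-!
# The functor `(p : W ⟶ T) ↦ p_* p^* G` on schemes over `T`
-/

set_option autoImplicit false
set_option linter.style.haveILetI false
set_option backward.isDefEq.respectTransparency false
set_option backward.isDefEq.respectTransparency.types false

universe u

open CategoryTheory CategoryTheory.Limits AlgebraicGeometry TopologicalSpace Opposite

noncomputable section

namespace Groth.Agent.ModDescent24

variable {T : Scheme.{u}}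

/-- Direct images along a composite over `T`. -/
def pushOverIso {a b : Over T} (q : a ⟶ b) :
    Scheme.Modules.pushforward q.left ⋙ Scheme.Modules.pushforward b.hom ≅
      Scheme.Modules.pushforward a.hom :=
  Scheme.Modules.pushforwardComp q.left b.hom ≪≫ Scheme.Modules.pushforwardCongr (Over.w q)

theorem preimage_over {a b : Over T} (q : a ⟶ b) (U : T.Opens) :
    a.hom ⁻¹ᵁ U = q.left ⁻¹ᵁ (b.hom ⁻¹ᵁ U) := by
  rw [← Over.w q]; rfl

theorem pushOverIso_hom_app {a b : Over T} (q : a ⟶ b) (M : a.left.Modules) (U : T.Opens)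
    (x : Γ(M, q.left ⁻¹ᵁ (b.hom ⁻¹ᵁ U))) :
    ((pushOverIso q).hom.app M).app U x = M.presheaf.map (eqToHom (preimage_over q U)).op x := rfl

theorem pushOverIso_inv_app {a b : Over T} (q : a ⟶ b) (M : a.left.Modules) (U : T.Opens)
    (x : Γ(M, a.hom ⁻¹ᵁ U)) :
    ((pushOverIso q).inv.app M).app U x = M.presheaf.map (eqToHom (preimage_over q U).symm).op x := rfl

/-- The map on inverse images adjunct to a map into a direct image over `T`. -/
def liftBot {a b : Over T} (q : a ⟶ b) (G : T.Modules) {M : a.left.Modules}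
    (φ : G ⟶ (Scheme.Modules.pushforward a.hom).obj M) :
    (Scheme.Modules.pullback b.hom).obj G ⟶ (Scheme.Modules.pushforward q.left).obj M :=
  ((Scheme.Modules.pullbackPushforwardAdjunction b.hom).homEquiv _ _).symm
    (φ ≫ (pushOverIso q).inv.app M)

/-- The map out of `b_* b^* G` extending `φ`. -/
def lift {a b : Over T} (q : a ⟶ b) (G : T.Modules) {M : a.left.Modules}
    (φ : G ⟶ (Scheme.Modules.pushforward a.hom).obj M) :
    (Scheme.Modules.pushforward b.hom).obj ((Scheme.Modules.pullback b.hom).obj G) ⟶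
      (Scheme.Modules.pushforward a.hom).obj M :=
  (Scheme.Modules.pushforward b.hom).map (liftBot q G φ) ≫ (pushOverIso q).hom.app M

/-- The unit `G ⟶ w_* w^* G`. -/
abbrev unit (G : T.Modules) (w : Over T) :
    G ⟶ (Scheme.Modules.pushforward w.hom).obj ((Scheme.Modules.pullback w.hom).obj G) :=
  (Scheme.Modules.pullbackPushforwardAdjunction w.hom).unit.app G

theorem unit_map_liftBot {a b : Over T} (q : a ⟶ b) (G : T.Modules) {M : a.left.Modules}
    (φ : G ⟶ (Scheme.Modules.pushforward a.hom).obj M) :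
    unit G b ≫ (Scheme.Modules.pushforward b.hom).map (liftBot q G φ) = φ ≫ (pushOverIso q).inv.app M := by
  rw [← Adjunction.homEquiv_unit, liftBot, Equiv.apply_symm_apply]

theorem unit_lift {a b : Over T} (q : a ⟶ b) (G : T.Modules) {M : a.left.Modules}
    (φ : G ⟶ (Scheme.Modules.pushforward a.hom).obj M) : unit G b ≫ lift q G φ = φ := by
  rw [lift, ← Category.assoc, unit_map_liftBot, Category.assoc, Iso.inv_hom_id_app]
  exact Category.comp_id φ

theorem lift_unique {a b : Over T} (q : a ⟶ b) (G : T.Modules) {M : a.left.Modules}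
    (φ : G ⟶ (Scheme.Modules.pushforward a.hom).obj M)
    (ν : (Scheme.Modules.pullback b.hom).obj G ⟶ (Scheme.Modules.pushforward q.left).obj M)
    {σ : (Scheme.Modules.pushforward b.hom).obj ((Scheme.Modules.pullback b.hom).obj G) ⟶
      (Scheme.Modules.pushforward a.hom).obj M}
    (hσ : σ = (Scheme.Modules.pushforward b.hom).map ν ≫ (pushOverIso q).hom.app M)
    (h : unit G b ≫ σ = φ) : σ = lift q G φ := by
  subst hσ
  have : ν = liftBot q G φ := by
    apply ((Scheme.Modules.pullbackPushforwardAdjunction b.hom).homEquiv _ _).injective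
    rw [liftBot, Equiv.apply_symm_apply, Adjunction.homEquiv_unit, ← h, Category.assoc, Category.assoc,
      Iso.hom_inv_id_app]
    exact (congrArg (unit G b ≫ ·) (Category.comp_id _)).symm
  subst this
  rfl

theorem lift_id (G : T.Modules) (a : Over T) : lift (𝟙 a) G (unit G a) = 𝟙 _ := by
  refine (lift_unique (𝟙 a) G (unit G a)
    ((Scheme.Modules.pushforwardId a.left).inv.app ((Scheme.Modules.pullback a.hom).obj G)) (σ := 𝟙 _) ?_
    (Category.comp_id _)).symm
  refine Scheme.Modules.hom_ext _ _ fun U => ConcreteCategory.hom_ext _ _ fun x => ?_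
  show x = ((pushOverIso (𝟙 a)).hom.app _).app U x
  rw [pushOverIso_hom_app]
  exact (QCoh.map_id' (M := (Scheme.Modules.pullback a.hom).obj G) (eqToHom (preimage_over (𝟙 a) U)) _).symm

theorem lift_comp {a b c : Over T} (q : a ⟶ b) (r : b ⟶ c) (G : T.Modules) {M : a.left.Modules}
    (φ : G ⟶ (Scheme.Modules.pushforward a.hom).obj M) :
    lift r G (unit G b) ≫ lift q G φ = lift (q ≫ r) G φ := by
  refine lift_unique (q ≫ r) G φ
    (liftBot r G (unit G b) ≫ (Scheme.Modules.pushforward r.left).map (liftBot q G φ) ≫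
      (Scheme.Modules.pushforwardComp q.left r.left).hom.app M) ?_
    (by rw [← Category.assoc, unit_lift, unit_lift])
  refine Scheme.Modules.hom_ext _ _ fun U => ConcreteCategory.hom_ext _ _ fun x => ?_
  show ((pushOverIso q).hom.app M).app U ((liftBot q G φ).app (b.hom ⁻¹ᵁ U)
    (((pushOverIso r).hom.app _).app U ((liftBot r G (unit G b)).app (c.hom ⁻¹ᵁ U) x))) =
    ((pushOverIso (q ≫ r)).hom.app M).app U
      ((liftBot q G φ).app (r.left ⁻¹ᵁ (c.hom ⁻¹ᵁ U)) ((liftBot r G (unit G b)).app (c.hom ⁻¹ᵁ U) x))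
  rw [pushOverIso_hom_app, pushOverIso_hom_app, pushOverIso_hom_app]
  refine (congrArg (M.presheaf.map (eqToHom (preimage_over q U)).op)
    (QCoh.map_app_comm (liftBot q G φ) (eqToHom (preimage_over r U)) _)).trans ?_
  exact QCoh.map_map _ _ _

/-- `(w : W ⟶ T) ↦ w_* w^* G`. -/
def pullPush (G : T.Modules) : (Over T)ᵒᵖ ⥤ T.Modules where
  obj w := (Scheme.Modules.pushforward w.unop.hom).obj ((Scheme.Modules.pullback w.unop.hom).obj G)
  map {w w'} q := lift q.unop G (unit G w'.unop)
  map_id w := lift_id G w.unop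
  map_comp {w w' w''} q r := (lift_comp r.unop q.unop G (unit G w''.unop)).symm

theorem unit_pullPush_map (G : T.Modules) {a b : Over T} (q : a ⟶ b) :
    unit G b ≫ (pullPush G).map q.op = unit G a := unit_lift q G _

theorem pullPush_map_app_pullback (G : T.Modules) {a b : Over T} (q : a ⟶ b) (U : T.Opens)
    (x : Γ(G, U)) :
    ((pullPush G).map q.op).app U ((unit G b).app U x) = (unit G a).app U x :=
  congrArg (fun t => t.app U x) (unit_pullPush_map G q)

/-- Scalars: the transition maps are semilinear for the structure maps. -/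
theorem pullPush_map_app_smul (G : T.Modules) {a b : Over T} (q : a ⟶ b) (U : T.Opens)
    (r : Γ(b.left, b.hom ⁻¹ᵁ U)) (y : Γ((Scheme.Modules.pullback b.hom).obj G, b.hom ⁻¹ᵁ U)) :
    (show Γ((Scheme.Modules.pullback a.hom).obj G, a.hom ⁻¹ᵁ U) from
      ((pullPush G).map q.op).app U (r • y)) =
    q.left.appLE (b.hom ⁻¹ᵁ U) (a.hom ⁻¹ᵁ U) (preimage_over q U).le r •
      (show Γ((Scheme.Modules.pullback a.hom).obj G, a.hom ⁻¹ᵁ U) from ((pullPush G).map q.op).app U y) := by
  let ν := liftBot q G (unit G a)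
  let P := (Scheme.Modules.pullback a.hom).obj G
  show P.presheaf.map (eqToHom (preimage_over q U)).op (ν.app (b.hom ⁻¹ᵁ U) (r • y)) =
    _ • P.presheaf.map (eqToHom (preimage_over q U)).op (ν.app (b.hom ⁻¹ᵁ U) y)
  rw [Scheme.Modules.Hom.app_smul]
  refine (congrArg (P.presheaf.map (eqToHom (preimage_over q U)).op)
    (QCoh.pushforward_smul q.left (b.hom ⁻¹ᵁ U) r (ν.app _ y))).trans ?_
  refine (QCoh.map_smul' _ _ _).trans ?_
  rfl

end Groth.Agent.ModDescent24
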