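import Groth.Agent.ModDescent24.Colim
import Groth.Agent.ModDescent24.Loc
import Groth.Agent.ModDescent24.IsBC
import Groth.Agent.QCoh.Qcqs

/-!
# Models of a module on the limit over opens of the stages
-/

set_option autoImplicit false
set_option linter.style.haveILetI false
set_option backward.isDefEq.respectTransparency false
set_option backward.isDefEq.respectTransparency.types false
set_option maxHeartbeats 1000000

universe u

open CategoryTheory CategoryTheory.Limits AlgebraicGeometry TopologicalSpace Opposite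

noncomputable section

namespace Groth.Agent.ModDescent24

open ZClosLib (res res_res res_self app_res)

/-- Restriction of quasi-coherent modules between affine opens is a base change. -/
theorem isBC_res {X : Scheme.{u}} {M : X.Modules} (hM : Coh.IsQCoh M) {U U' : X.Opens} (hU : IsAffineOpen U)
    (hU' : IsAffineOpen U') (h : U' ≤ U) : IsBC (X.presheaf.map (homOfLE h).op).hom (res M h) := by
  let φ := 𝟙 X
  let N := (Scheme.Modules.pullback φ).obj M
  have hle : U' ≤ φ ⁻¹ᵁ U := h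
  letI : Algebra Γ(X, U) Γ(X, U') := (φ.appLE U U' hle).hom.toAlgebra
  letI : Module Γ(X, U) Γ(N, U') := Module.compHom _ (φ.appLE U U' hle).hom
  haveI : IsScalarTower Γ(X, U) Γ(X, U') Γ(N, U') := .of_algebraMap_smul fun _ _ => rfl
  let l : Γ(M, U) →ₗ[Γ(X, U)] Γ(N, U') :=
    { toFun := QCoh.pullSec φ M hle
      map_add' := QCoh.pullSec_add φ M hle
      map_smul' := fun r x => QCoh.pullSec_smul φ M hle r x }
  have hl : IsBaseChange Γ(X, U') l :=
    QCoh.isBaseChange_pullback hU φ hU' hM hle (fun _ => rfl) l fun _ => rfl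
  have h1 : IsBC (φ.appLE U U' hle).hom (QCoh.pullSec φ M hle) := ⟨l, fun _ => rfl, hl⟩
  let e := (Scheme.Modules.pullbackId X).app M
  have h2 : IsBC (RingHom.id Γ(X, U')) (fun x : Γ(N, U') => e.hom.app U' x) :=
    IsBC.of_bijective (fun x y => map_add _ x y) (fun r x => Scheme.Modules.Hom.app_smul e.hom r x)
      (ConcreteCategory.bijective_of_isIso (e.hom.app U'))
  refine (h1.comp h2).congr ?_ fun x => ?_
  · rw [RingHom.id_comp]
    exact congrArg CommRingCat.Hom.hom (show φ.appLE U U' hle = X.presheaf.map (homOfLE h).op by simp [φ, Scheme.Hom.appLE])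
  · let u := (Scheme.Modules.pullbackPushforwardAdjunction φ).unit.app M
    have hu : u ≫ (Scheme.Modules.pushforward φ).map e.hom = (Scheme.Modules.pushforwardId X).inv.app M := by
      rw [← Scheme.Modules.conjugateEquiv_pullbackId_hom]
      exact ((unit_conjugateEquiv Adjunction.id _ (Scheme.Modules.pullbackId X).hom M).symm.trans
        (Category.id_comp _))
    show e.hom.app U' (res N hle (u.app U x)) = res M h x
    refine (app_res e.hom hle _).trans ?_
    exact congrArg (res M h) (congrArg (fun t => t.app U x) hu)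

/-- The unit of `w^* ⊣ w_*` is a base change over affine opens. -/
theorem isBC_unitSec {T : Scheme.{u}} {G : T.Modules} (hG : Coh.IsQCoh G) (w : Over T) [IsAffineHom w.hom]
    {U : T.Opens} (hU : IsAffineOpen U) : IsBC (w.hom.app U).hom (unitSec G w U) := by
  letI := sectAlg U w
  let N := (Scheme.Modules.pullback w.hom).obj G
  letI : Module Γ(T, U) Γ(N, w.hom ⁻¹ᵁ U) := Module.compHom _ (w.hom.app U).hom
  haveI : IsScalarTower Γ(T, U) Γ(w.left, w.hom ⁻¹ᵁ U) Γ(N, w.hom ⁻¹ᵁ U) :=
    .of_algebraMap_smul fun _ _ => rfl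
  let l : Γ(G, U) →ₗ[Γ(T, U)] Γ(N, w.hom ⁻¹ᵁ U) :=
    { toFun := fun x => (unit G w).app U x
      map_add' := fun x y => map_add ((unit G w).app U).hom x y
      map_smul' := fun r x => Scheme.Modules.Hom.app_smul (unit G w) _ _ }
  exact ⟨l, fun _ => rfl, QCoh.isBaseChange_pullback hU w.hom (hU.preimage w.hom) hG le_rfl
    (fun r => by
      show w.hom.app U r = _
      rw [Scheme.Hom.app_eq_appLE]) l
    (fun x => (QCoh.map_id' (M := N) (homOfLE (le_refl (w.hom ⁻¹ᵁ U))) ((unit G w).app U x)).symm)⟩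

variable {I : Type u} [SmallCategory I] {D : I ⥤ Scheme.{u}} {c : Cone D} (F : c.pt.Modules)

variable (c) in
/-- The direct image of the module to a stage. -/
abbrev Pi (i : I) : (D.obj i).Modules := (Scheme.Modules.pushforward (c.π.app i)).obj F

theorem preimage_stage {i k : I} (m : k ⟶ i) (O : (D.obj i).Opens) :
    c.π.app k ⁻¹ᵁ (D.map m ⁻¹ᵁ O) = c.π.app i ⁻¹ᵁ O := by
  rw [← c.w m]; rfl

variable (c) in
/-- The direct images are compatible. -/
def pTrans {i k : I} (m : k ⟶ i) : Pi c F i ⟶ (Scheme.Modules.pushforward (D.map m)).obj (Pi c F k) :=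
  ((Scheme.Modules.pushforwardCongr (c.w m).symm).hom ≫
    (Scheme.Modules.pushforwardComp (c.π.app k) (D.map m)).inv).app F

theorem pTrans_app {i k : I} (m : k ⟶ i) (O : (D.obj i).Opens) (x : Γ(F, c.π.app i ⁻¹ᵁ O)) :
    (show Γ(F, c.π.app k ⁻¹ᵁ (D.map m ⁻¹ᵁ O)) from (pTrans c F m).app O x) =
      res F (preimage_stage m O).le x := rfl

variable {F}

/-- The sections of `F` defined by a map into a localisation. -/
def secF {i : I} {W : (D.obj i).Opens} {G : (D.obj i).Modules} (f : G ⟶ (Loc W).obj (Pi c F i))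
    {U : (D.obj i).Opens} (hle : U ≤ W) (x : Γ(G, U)) : Γ(F, c.π.app i ⁻¹ᵁ U) :=
  evIn W (Pi c F i) hle (f.app U x)

theorem secF_res {i : I} {W : (D.obj i).Opens} {G : (D.obj i).Modules} (f : G ⟶ (Loc W).obj (Pi c F i))
    {U U' : (D.obj i).Opens} (hle : U ≤ W) (h : U' ≤ U) (x : Γ(G, U)) :
    secF f (h.trans hle) (res G h x) =
      res F ((c.π.app i).preimage_mono h) (secF f hle x) := by
  let a : Γ(Pi c F i, W ⊓ U) := ev W (Pi c F i) U (f.app U x)
  show res (Pi c F i) _ (ev W (Pi c F i) U' (f.app U' (res G h x))) = res (Pi c F i) h (res (Pi c F i) _ a)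
  rw [app_res, ev_res, res_res, res_res]

theorem secF_add {i : I} {W : (D.obj i).Opens} {G : (D.obj i).Modules} (f : G ⟶ (Loc W).obj (Pi c F i))
    {U : (D.obj i).Opens} (hle : U ≤ W) (x y : Γ(G, U)) : secF f hle (x + y) = secF f hle x + secF f hle y := by
  unfold secF evIn
  rw [map_add, ev_add]
  exact map_add _ _ _

theorem secF_smul {i : I} {W : (D.obj i).Opens} {G : (D.obj i).Modules} (f : G ⟶ (Loc W).obj (Pi c F i))
    {U : (D.obj i).Opens} (hle : U ≤ W) (r : Γ(D.obj i, U)) (x : Γ(G, U)) :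
    secF f hle (r • x) = (c.π.app i).app U r • secF f hle x := by
  unfold secF evIn
  rw [Scheme.Modules.Hom.app_smul, ev_smul]
  refine (QCoh.map_smul' (M := Pi c F i) _ _ _).trans ?_
  refine (congrArg (· • (_ : Γ(Pi c F i, U))) ((QCoh.ringMap_map _ _ r).trans (QCoh.ringMap_id _ r))).trans ?_
  exact QCoh.pushforward_smul (c.π.app i) U r _

variable (c) in
/-- `G` is a model of `F` over the affine open `U`. -/
def Good {i : I} {W : (D.obj i).Opens} {G : (D.obj i).Modules} (f : G ⟶ (Loc W).obj (Pi c F i))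
    (U : (D.obj i).Opens) : Prop :=
  ∃ hle : U ≤ W, IsAffineOpen U ∧ Module.FinitePresentation Γ(D.obj i, U) Γ(G, U) ∧
    IsBC ((c.π.app i).app U).hom (secF f hle)

theorem Good.restrict {i : I} [IsAffineHom (c.π.app i)] {W : (D.obj i).Opens} {G : (D.obj i).Modules}
    {f : G ⟶ (Loc W).obj (Pi c F i)} (hG : Coh.IsQCoh G) (hF : Coh.IsQCoh F) {U U' : (D.obj i).Opens}
    (hg : Good c f U) (hU' : IsAffineOpen U') (h : U' ≤ U) : Good c f U' := by
  obtain ⟨hle, hU, hfp, hbc⟩ := hg
  have hres := isBC_res hG hU hU' h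
  refine ⟨h.trans hle, hU', hres.finitePresentation, hres.of_comp (secF_add f _) (secF_smul f _) ?_⟩
  refine (hbc.comp (isBC_res hF (hU.preimage (c.π.app i)) (hU'.preimage (c.π.app i))
    ((c.π.app i).preimage_mono h))).congr ?_ fun x => (secF_res f hle h x).symm
  exact congrArg CommRingCat.Hom.hom ((c.π.app i).naturality (homOfLE h).op).symm

variable (c) in
/-- The model moved to a later stage. -/
def raiseF {i k : I} (m : k ⟶ i) {W : (D.obj i).Opens} {G : (D.obj i).Modules}
    (f : G ⟶ (Loc W).obj (Pi c F i)) :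
    (Scheme.Modules.pullback (D.map m)).obj G ⟶ (Loc (D.map m ⁻¹ᵁ W)).obj (Pi c F k) :=
  raise (D.map m) f (pTrans c F m)

theorem secF_raiseF {i k : I} (m : k ⟶ i) {W : (D.obj i).Opens} {G : (D.obj i).Modules}
    (f : G ⟶ (Loc W).obj (Pi c F i)) {U : (D.obj i).Opens} (hle : U ≤ W) (x : Γ(G, U)) :
    secF (raiseF c m f) ((D.map m).preimage_mono hle) (unitSec G (Over.mk (D.map m)) U x) =
      res F (preimage_stage m U).le (secF f hle x) := by
  let q := D.map m
  let a : Γ(Pi c F i, W ⊓ U) := ev W (Pi c F i) U (f.app U x)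
  have h2 : (show Γ(F, c.π.app k ⁻¹ᵁ (q ⁻¹ᵁ (W ⊓ U))) from
      ev (q ⁻¹ᵁ W) (Pi c F k) (q ⁻¹ᵁ U)
        ((raiseF c m f).app (q ⁻¹ᵁ U) (unitSec G (Over.mk q) U x))) =
      res F (preimage_stage m (W ⊓ U)).le (show Γ(F, c.π.app i ⁻¹ᵁ (W ⊓ U)) from a) :=
    (ev_raise_unit q f (pTrans c F m) U x).trans (pTrans_app F m _ a)
  have hm : c.π.app k ⁻¹ᵁ (q ⁻¹ᵁ U) ≤ c.π.app k ⁻¹ᵁ (q ⁻¹ᵁ (W ⊓ U)) :=
    (c.π.app k).preimage_mono (q.preimage_mono (le_inf hle le_rfl))
  refine (congrArg (res F hm) h2).trans ((res_res F _ _ _).trans (res_res F _ _ _).symm)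

variable [IsCofiltered I] (hc : IsLimit c)

include hc in
theorem Good.raise [∀ {a b : I} (f : a ⟶ b), IsAffineHom (D.map f)] {i k : I} (m : k ⟶ i)
    {W : (D.obj i).Opens} {G : (D.obj i).Modules} {f : G ⟶ (Loc W).obj (Pi c F i)}
    (hG : Coh.IsQCoh G) (hF : Coh.IsQCoh F) {U : (D.obj i).Opens} (hg : Good c f U) :
    Good c (raiseF c m f) (D.map m ⁻¹ᵁ U) := by
  obtain ⟨hle, hU, hfp, hbc⟩ := hg
  haveI := isAffineHom_π_app D c hc i
  haveI := isAffineHom_π_app D c hc k
  haveI : IsAffineHom (Over.mk (D.map m)).hom := inferInstanceAs (IsAffineHom (D.map m))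
  have hun := isBC_unitSec hG (Over.mk (D.map m)) hU
  have hU' : IsAffineOpen (D.map m ⁻¹ᵁ U) := hU.preimage _
  refine ⟨(D.map m).preimage_mono hle, hU', hun.finitePresentation,
    hun.of_comp (secF_add _ _) (secF_smul _ _) ?_⟩
  refine (hbc.comp (isBC_res hF (hU.preimage (c.π.app i)) (hU'.preimage (c.π.app k))
    (preimage_stage m U).le)).congr ?_ fun x => (secF_raiseF m f hle x).symm
  refine congrArg CommRingCat.Hom.hom ?_
  show (c.π.app i).app U ≫ c.pt.presheaf.map (homOfLE (preimage_stage m U).le).op =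
    (D.map m).app U ≫ (c.π.app k).app (D.map m ⁻¹ᵁ U)
  rw [Scheme.Hom.app_eq_appLE, Scheme.Hom.app_eq_appLE, Scheme.Hom.app_eq_appLE]
  erw [Scheme.Hom.appLE_map, Scheme.Hom.appLE_comp_appLE]
  congr 1
  exact (c.w m).symm

end Groth.Agent.ModDescent24
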